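import Cfsg.Agent.H59.Nine.Loc.Base
import Cfsg.Agent.H59.AltSixThree.Products
import Cfsg.Agent.H12.Products
import Cfsg.Agent.H12.Integral
import Cfsg.Agent.H12.Glauberman
import Cfsg.Agent.H79.CoprimeGen
import Cfsg.Agent.H24.CharBasic

/-!
A self-centralising elementary Sylow `3`-subgroup of order nine whose non-identity elements are all
conjugate: values of the characters.
-/

set_option autoImplicit false
set_option linter.unusedSectionVars false

open Cfsg
open scoped ComplexConjugate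

namespace H59.Nine.One

open H59.AltSixThree (CC9)

universe u

variable {G : Type u} [Group G] {S : Subgroup G}

/-- one class of non-identity elements -/
structure OneClass (S : Subgroup G) : Prop where
  cc : CC9 S
  one : ∀ a ∈ S, ∀ b ∈ S, a ≠ 1 → b ≠ 1 → IsConj a b

variable [Finite G]

theorem CC9.inv_normal_trivial (h : CC9 S) {D : Subgroup G} (hD3 : ¬ 3 ∣ Nat.card D)
    (hS : S ≤ Subgroup.normalizer (D : Set G)) : D = ⊥ := by
  haveI := Fact.mk Nat.prime_three
  haveI : IsMulCommutative S := ⟨⟨fun a b => Subtype.ext (h.comm a a.2 b b.2)⟩⟩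
  have hnc : ¬ IsCyclic S := by
    intro hc
    obtain ⟨g, hg⟩ := hc.exists_generator
    have h9 : orderOf g = 9 := by
      rw [orderOf_eq_card_of_forall_mem_zpowers hg, h.card]
    have h3 : orderOf g ∣ 3 := orderOf_dvd_of_pow_eq_one (Subtype.ext (h.exp g g.2))
    rw [h9] at h3
    norm_num at h3
  refine eq_bot_iff.2 (H79.le_of_centralizers_le (p := 3) h.exp hnc hS
    ((Nat.prime_three.coprime_iff_not_dvd.2 hD3).symm) fun x hx hx1 => ?_)
  rw [h.cent x hx hx1]
  intro g hg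
  have h3g : orderOf g ∣ 3 := orderOf_dvd_of_pow_eq_one (h.exp g hg.2)
  rcases (Nat.dvd_prime Nat.prime_three).1 h3g with e | e
  · exact Subgroup.mem_bot.2 (orderOf_eq_one_iff.1 e)
  · exact absurd (e ▸ D.orderOf_dvd_natCard hg.1) hD3

theorem CC9.orderOf_eq (h : CC9 S) {x : G} (hx : x ∈ S) (hx1 : x ≠ 1) : orderOf x = 3 :=
  orderOf_eq_prime (hp := ⟨Nat.prime_three⟩) (h.exp x hx) hx1

theorem CC9.eq_of_mem (h : CC9 S) {x g : G} (hx : x ∈ S) (hx1 : x ≠ 1) (hg : g ∈ S)
    (hgx : g ∉ Subgroup.zpowers x) {K : Subgroup G} (hxK : x ∈ K) (hgK : g ∈ K) : S ≤ K := by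
  have hle : Subgroup.zpowers x ≤ S ⊓ K := le_inf (Subgroup.zpowers_le.2 hx) (Subgroup.zpowers_le.2 hxK)
  have h3 : 3 ∣ Nat.card (S ⊓ K : Subgroup G) := by
    rw [← CC9.orderOf_eq h hx hx1, ← Nat.card_zpowers]
    exact Subgroup.card_dvd_of_le hle
  have hd : Nat.card (S ⊓ K : Subgroup G) ∣ 3 ^ 2 := by
    rw [show 3 ^ 2 = 9 from rfl, ← h.card]
    exact Subgroup.card_dvd_of_le inf_le_left
  obtain ⟨k, hk, he⟩ := (Nat.dvd_prime_pow Nat.prime_three).1 hd
  have hne : Nat.card (S ⊓ K : Subgroup G) ≠ 3 := fun e => by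
    have heq : Subgroup.zpowers x = S ⊓ K :=
      Subgroup.eq_of_le_of_card_ge hle (by rw [e, Nat.card_zpowers, CC9.orderOf_eq h hx hx1])
    exact hgx (heq ▸ ⟨hg, hgK⟩)
  have h9 : Nat.card (S ⊓ K : Subgroup G) = 9 := by
    interval_cases k
    · rw [he] at h3; norm_num at h3
    · exact absurd he hne
    · exact he
  exact inf_eq_left.1 (Subgroup.eq_of_le_of_card_ge inf_le_left (by rw [h9, h.card]))

theorem CC9.sf (h : CC9 S) {x : G} (hx : x ∈ S) (hx1 : x ≠ 1) : Loc.SF x := by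
  have hord := CC9.orderOf_eq h hx hx1
  refine ⟨hord, fun g hg => h.exp g (h.mem_of_commute hx hx1 hg), fun D hD1 hD3 hxD g hgD hg => ?_⟩
  have hgS := h.mem_of_commute hx hx1 hg
  by_cases hz : g ∈ Subgroup.zpowers x
  · classical
    have h' := (IsOfFinOrder.mem_zpowers_iff_mem_range_orderOf (isOfFinOrder_of_finite x)).1 hz
    rw [hord, Finset.mem_image] at h'
    obtain ⟨k, hk, rfl⟩ := h'
    rw [Finset.mem_range] at hk
    interval_cases k <;> simp [pow_two]
  · exact absurd (CC9.inv_normal_trivial h hD3 (CC9.eq_of_mem h hx hx1 hgS hz hxD hgD)) hD1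

theorem OneClass.flip (h : OneClass S) {x : G} (hx : x ∈ S) (hx1 : x ≠ 1) :
    ∃ t, t * x * t⁻¹ = x⁻¹ :=
  isConj_iff.1 (h.one x hx x⁻¹ (S.inv_mem hx) hx1 (inv_ne_one.2 hx1))

theorem OneClass.centralizer_card (h : OneClass S) {x : G} (hx : x ∈ S) (hx1 : x ≠ 1) :
    Nat.card (Subgroup.centralizer ({x} : Set G)) = 9 := by
  rw [h.cc.cent x hx hx1, h.cc.card]

end H59.Nine.One

namespace H59.Nine.One

universe u

variable {G : Type u} [Group G] [Fintype G] {S : Subgroup G}

open scoped Classical in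
/-- the values on the non-identity elements -/
theorem OneClass.values (h : OneClass S) {x : G} (hx : x ∈ S) (hx1 : x ≠ 1) :
    ∃ v : IrrCharacter G → ℤ, (∀ χ : IrrCharacter G, (χ : G → ℂ) x = (v χ : ℂ)) ∧
      v (H12.oneIrr G) = 1 ∧
      (∑ χ : IrrCharacter G, v χ * v χ = 9) ∧
      (∑ χ : IrrCharacter G, (charDegree (χ : G → ℂ) : ℤ) * v χ = 0) ∧
      (∀ g : G, ¬ IsConj x g → ∑ χ : IrrCharacter G, (χ : G → ℂ) g * (v χ : ℂ) = 0) ∧
      (∀ χ : IrrCharacter G, (9 : ℤ) ∣ (charDegree (χ : G → ℂ) : ℤ) - v χ) := by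
  haveI : Fintype S := Fintype.ofFinite _
  have hval : ∀ χ : IrrCharacter G, ∃ z : ℤ, (χ : G → ℂ) x = (z : ℂ) ∧
      (9 : ℤ) ∣ (charDegree (χ : G → ℂ) : ℤ) - z := by
    intro χ
    have h1 := H12.Glauberman.classInner_eq_mult S χ (H12.oneIrr _)
    rw [H12.classInner_def] at h1
    simp only [H12.oneIrr_apply, map_one, mul_one, h.cc.card] at h1
    set n := H12.Glauberman.mult S χ (H12.oneIrr S)
    have hsum : ∑ c : S, (χ : G → ℂ) c = (charDegree (χ : G → ℂ) : ℂ) + 8 * (χ : G → ℂ) x := by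
      have hc : ∀ c ∈ (Finset.univ : Finset S).erase 1, (χ : G → ℂ) c = (χ : G → ℂ) x := fun c hc =>
        ((H12.isConj_iff_irr _ _).1 (h.one x hx c c.2 hx1
          (fun e => (Finset.mem_erase.1 hc).1 (Subtype.ext e))) χ).symm
      rw [← Finset.add_sum_erase _ _ (Finset.mem_univ (1 : S)), OneMemClass.coe_one, H24.irr_one,
        Finset.sum_congr rfl hc, Finset.sum_const, Finset.card_erase_of_mem (Finset.mem_univ _), Finset.card_univ,
        ← Nat.card_eq_fintype_card, h.cc.card]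
      simp
    rw [hsum] at h1
    have h2 : (χ : G → ℂ) x = (((9 * (n : ℚ) - (charDegree (χ : G → ℂ) : ℚ)) / 8 : ℚ) : ℂ) := by
      push_cast
      push_cast at h1
      linear_combination (9 / 8 : ℂ) * h1
    have hi := H12.IsCharacter.isIntegral (H12.isCharacter_irr χ) x
    rw [h2] at hi
    obtain ⟨z, hz⟩ := H12.exists_int_of_isIntegral_rat hi
    refine ⟨z, by rw [h2, ← hz]; push_cast; rfl, ?_⟩
    have : 8 * z = 9 * (n : ℤ) - charDegree (χ : G → ℂ) := by
      have : ((8 * z : ℤ) : ℚ) = ((9 * (n : ℤ) - charDegree (χ : G → ℂ) : ℤ) : ℚ) := by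
        push_cast; rw [hz]; ring
      exact_mod_cast this
    omega
  choose v hv hv9 using hval
  have horth : ∀ g : G, ¬ IsConj x g → ∑ χ : IrrCharacter G, (χ : G → ℂ) g * (v χ : ℂ) = 0 := by
    intro g hg
    have h' := H12.column_orthogonality g x
    rw [if_neg fun e => hg e.symm] at h'
    simpa only [hv, map_intCast] using h'
  refine ⟨v, hv, ?_, ?_, ?_, horth, hv9⟩
  · have := hv (H12.oneIrr G)
    rw [H12.oneIrr_apply] at this
    exact_mod_cast this.symm
  · have h' := H12.column_orthogonality x x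
    simp only [hv, map_intCast, if_pos (IsConj.refl x), h.centralizer_card hx hx1] at h'
    exact_mod_cast h'
  · have h' := horth 1 fun e => hx1 (isConj_one_left.1 e)
    simp only [H24.irr_one] at h'
    exact_mod_cast h'

end H59.Nine.One
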