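import Cfsg.Agent.H59.Nine.One.Basic

/-!
The class product of the class of a non-identity element of `S` with itself: the group order times
`∑ v ^ 3 / degree` is bounded by the union of the invariant subgroups.
-/

set_option autoImplicit false
set_option linter.unusedSectionVars false

open Cfsg
open scoped ComplexConjugate

namespace H59.Nine.One

open H59.AltSixThree (CC9)

universe u

variable {G : Type u} [Group G] [Fintype G] {S : Subgroup G}

/-- the non-identity elements of the `3'`-subgroups normalised by `x` -/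
def invUnion (x : G) : Set G := {k | k ≠ 1 ∧ ∃ L : Subgroup G, Loc.IsInv x L ∧ k ∈ L}

theorem key (h : CC9 S) {x : G} (hx : x ∈ S) (hx1 : x ≠ 1) {g : G}
    (hg : IsConj x (x * (g * x * g⁻¹))) :
    x⁻¹ * (g * x * g⁻¹) ∈ S ∨ ∃ L : Subgroup G, Loc.IsInv x L ∧ x⁻¹ * (g * x * g⁻¹) ∈ L := by
  obtain ⟨k, hk⟩ : ∃ k, k = x⁻¹ * (g * x * g⁻¹) := ⟨_, rfl⟩
  rw [← hk]
  set k1 := x * k * x⁻¹ with hk1
  set k2 := x * k1 * x⁻¹ with hk2
  have hcube : x * x * x = 1 := by rw [← pow_three']; exact h.exp x hx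
  have hxi : x⁻¹ = x * x := inv_eq_of_mul_eq_one_right (by rw [← mul_assoc, hcube])
  have hxk : g * x * g⁻¹ = x * k := by rw [hk, mul_inv_cancel_left]
  have hcc : ∀ c : G, c * x * c⁻¹ * (c * x * c⁻¹) * (c * x * c⁻¹) = 1 := fun c => by
    calc c * x * c⁻¹ * (c * x * c⁻¹) * (c * x * c⁻¹) = c * (x * x * x) * c⁻¹ := by group
      _ = 1 := by rw [hcube]; group
  have h1 : k1 * k2 * k = 1 := by
    have h' := hcc g
    rw [hxk] at h'
    calc k1 * k2 * k = x * k * x * k * (x⁻¹ * x⁻¹) * k := by rw [hk2, hk1]; group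
      _ = x * k * (x * k) * (x * k) := by
        rw [show x⁻¹ * x⁻¹ = x from by rw [hxi, show x * x * (x * x) = x * x * x * x by group, hcube, one_mul]]
        group
      _ = 1 := h'
  have h2 : k2 * k1 * k = 1 := by
    obtain ⟨c, hc⟩ := isConj_iff.1 hg
    rw [hxk] at hc
    have h' := hcc c
    rw [hc] at h'
    calc k2 * k1 * k = x * x * k * (x⁻¹ * (x * x⁻¹) * x) * (x⁻¹ * x⁻¹ * x * x) * (x⁻¹ * (k * (x⁻¹ * k))) := by
          rw [hk2, hk1]; group
      _ = x * x * k * x⁻¹ * k * x⁻¹ * k := by group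
      _ = x * (x * k) * (x * (x * k)) * (x * (x * k)) := by rw [hxi]; group
      _ = 1 := h'
  have hcom : k1 * k2 = k2 * k1 := mul_right_cancel (h1.trans h2.symm)
  have hk' : k = (k1 * k2)⁻¹ := eq_inv_of_mul_eq_one_right h1
  let A := Subgroup.closure ({k1, k2} : Set G)
  haveI hAc : IsMulCommutative A := Subgroup.isMulCommutative_closure (by
    intro a ha b hb
    simp only [Set.mem_insert_iff, Set.mem_singleton_iff] at ha hb
    rcases ha with rfl | rfl <;> rcases hb with rfl | rfl <;> first | rfl | exact hcom | exact hcom.symm)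
  have hkA : k ∈ A := hk' ▸ inv_mem (mul_mem (Subgroup.subset_closure (Or.inl rfl)) (Subgroup.subset_closure (Or.inr rfl)))
  have hcomA : ∀ a ∈ A, ∀ b ∈ A, a * b = b * a := fun a ha b hb =>
    congrArg Subtype.val (hAc.is_comm.comm (⟨a, ha⟩ : A) ⟨b, hb⟩)
  have hn : ∀ a ∈ A, x * a * x⁻¹ ∈ A := by
    intro a ha
    have hle : A ≤ A.comap (MulAut.conj x).toMonoidHom := by
      rw [Subgroup.closure_le]
      intro b hb
      simp only [Set.mem_insert_iff, Set.mem_singleton_iff] at hb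
      rcases hb with rfl | rfl
      · exact Subgroup.subset_closure (Or.inr rfl)
      · show x * k2 * x⁻¹ ∈ A
        have : x * k2 * x⁻¹ = k := by
          calc x * k2 * x⁻¹ = x * x * x * k * (x * x * x)⁻¹ := by rw [hk2, hk1]; group
            _ = k := by rw [hcube]; group
        rw [this]; exact hkA
    exact hle ha
  by_cases h3 : 3 ∣ Nat.card A
  · left
    haveI := Fact.mk Nat.prime_three
    obtain ⟨⟨y, hy⟩, hy3⟩ := exists_prime_orderOf_dvd_card' (G := A) 3 h3
    rw [Subgroup.orderOf_mk] at hy3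
    let T : Subgroup G :=
      { carrier := {a | a ∈ A ∧ a ^ 3 = 1}
        one_mem' := ⟨A.one_mem, one_pow 3⟩
        mul_mem' := fun {a b} ha hb => ⟨A.mul_mem ha.1 hb.1, by
          rw [(show Commute a b from hcomA a ha.1 b hb.1).mul_pow, ha.2, hb.2, one_mul]⟩
        inv_mem' := fun {a} ha => ⟨A.inv_mem ha.1, by rw [inv_pow, ha.2, inv_one]⟩ }
    let f : Equiv.Perm T :=
      { toFun := fun a => ⟨x * a * x⁻¹, hn _ a.2.1, by rw [conj_pow, a.2.2]; group⟩
        invFun := fun a => ⟨x * (x * a * x⁻¹) * x⁻¹, hn _ (hn _ a.2.1), by rw [conj_pow, conj_pow, a.2.2]; group⟩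
        left_inv := fun a => Subtype.ext (show x * (x * (x * (a : G) * x⁻¹) * x⁻¹) * x⁻¹ = a by
          calc x * (x * (x * (a : G) * x⁻¹) * x⁻¹) * x⁻¹ = x * x * x * a * (x * x * x)⁻¹ := by group
            _ = a := by rw [hcube]; group)
        right_inv := fun a => Subtype.ext (show x * (x * (x * (a : G) * x⁻¹) * x⁻¹) * x⁻¹ = a by
          calc x * (x * (x * (a : G) * x⁻¹) * x⁻¹) * x⁻¹ = x * x * x * a * (x * x * x)⁻¹ := by group
            _ = a := by rw [hcube]; group) }
    haveI := Fintype.ofFinite T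
    classical
    have hf : f ^ 3 ^ 1 = 1 := Equiv.ext fun a => f.left_inv a
    have hT : 3 ∣ Fintype.card T := by
      rw [← Nat.card_eq_fintype_card]
      have h' := T.orderOf_dvd_natCard (show y ∈ T from ⟨hy, by rw [← hy3, pow_orderOf_eq_one]⟩)
      rwa [hy3] at h'
    have hmod := (Equiv.Perm.card_compl_support_modEq hf).trans (Nat.modEq_zero_iff_dvd.2 hT)
    have h1m : (1 : T) ∈ f.supportᶜ := by
      rw [Finset.mem_compl, Equiv.Perm.notMem_support]
      exact Subtype.ext (show x * (1 : G) * x⁻¹ = 1 by group)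
    have hpos : 0 < f.supportᶜ.card := Finset.card_pos.2 ⟨_, h1m⟩
    have hone : 1 < f.supportᶜ.card := by
      have := Nat.modEq_zero_iff_dvd.1 hmod
      have := Nat.le_of_dvd hpos this
      omega
    obtain ⟨w, hw, hw1⟩ := Finset.exists_mem_ne hone (1 : T)
    have hwc : x * (w : G) * x⁻¹ = w := congrArg Subtype.val (Equiv.Perm.notMem_support.1 (Finset.mem_compl.1 hw))
    have hwS : (w : G) ∈ S := h.mem_of_commute hx hx1 (mul_inv_eq_iff_eq_mul.1 hwc).symm
    exact h.mem_of_commute hwS (fun e => hw1 (Subtype.ext e)) (hcomA k hkA w w.2.1)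
  · exact Or.inr ⟨A, ⟨hn, h3⟩, hkA⟩

open scoped Classical in
theorem count_bound (h : OneClass S) {x : G} (hx : x ∈ S) (hx1 : x ≠ 1) (v : IrrCharacter G → ℤ)
    (hv : ∀ χ : IrrCharacter G, (χ : G → ℂ) x = (v χ : ℂ)) :
    (Nat.card G : ℝ) * ∑ χ : IrrCharacter G, (v χ : ℝ) * v χ * v χ / (charDegree (χ : G → ℂ) : ℝ) ≤
      81 * (9 + (invUnion x).ncard : ℕ) := by
  have horth : ∀ g : G, ∑ χ : IrrCharacter G, (χ : G → ℂ) g * (v χ : ℂ) = if IsConj x g then 9 else 0 := by
    intro g
    have h' := H12.column_orthogonality g x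
    simp only [hv, map_intCast] at h'
    rw [h']
    by_cases hg : IsConj x g
    · obtain ⟨c, rfl⟩ := isConj_iff.1 hg
      rw [if_pos hg, if_pos hg.symm]
      have hmap : Nat.card (Subgroup.centralizer ({c * x * c⁻¹} : Set G)) =
          Nat.card (Subgroup.centralizer ({x} : Set G)) := by
        refine Nat.card_congr ((MulAut.conj c⁻¹).toEquiv.subtypeEquiv fun g => ?_)
        simp only [SetLike.mem_coe, Subgroup.mem_centralizer_singleton_iff, MulEquiv.toEquiv_eq_coe,
          EquivLike.coe_coe, MulAut.conj_apply, inv_inv]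
        constructor
        · intro e
          calc c⁻¹ * g * c * x = c⁻¹ * (g * (c * x * c⁻¹)) * c := by group
            _ = x * (c⁻¹ * g * c) := by rw [e]; group
        · intro e
          calc g * (c * x * c⁻¹) = c * (c⁻¹ * g * c * x) * c⁻¹ := by group
            _ = c * x * c⁻¹ * g := by rw [e]; group
      rw [hmap, h.centralizer_card hx hx1]; norm_num
    · rw [if_neg hg, if_neg fun e => hg e.symm]
  set N := Nat.card {g : G // IsConj x (x * (g * x * g⁻¹))} with hN
  have key' : (9 : ℂ) * (N : ℂ) = (Nat.card G : ℂ) *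
      ∑ χ : IrrCharacter G, ((v χ : ℂ) * v χ * v χ) / (charDegree (χ : G → ℂ) : ℂ) := by
    have h' : ∑ g : G, ∑ χ : IrrCharacter G, (χ : G → ℂ) (x * (g * x * g⁻¹)) * (v χ : ℂ) =
        ∑ g : G, (if IsConj x (x * (g * x * g⁻¹)) then (9 : ℂ) else 0) := Finset.sum_congr rfl fun g _ => horth _
    rw [Finset.sum_comm, ← Finset.sum_filter, Finset.sum_const, nsmul_eq_mul] at h'
    rw [hN, Nat.card_eq_fintype_card (α := {g : G // IsConj x (x * (g * x * g⁻¹))}), Fintype.card_subtype, mul_comm,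
      ← h', Finset.mul_sum]
    refine Finset.sum_congr rfl fun χ _ => ?_
    rw [← Finset.sum_mul, H12.irr_class_product, hv, H24.irr_one]
    ring
  have keyR : (Nat.card G : ℝ) * ∑ χ : IrrCharacter G, (v χ : ℝ) * v χ * v χ / (charDegree (χ : G → ℂ) : ℝ) =
      9 * (N : ℝ) := by
    apply Complex.ofReal_injective
    push_cast
    exact key'.symm
  rw [keyR]
  -- fibres
  set W : Set G := (S : Set G) ∪ invUnion x with hW
  have hfib : N ≤ 9 * W.ncard := by
    have hmem : ∀ g : G, IsConj x (x * (g * x * g⁻¹)) → x⁻¹ * (g * x * g⁻¹) ∈ W := by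
      intro g hg
      rcases key h.cc hx hx1 hg with hs | ⟨L, hL, hk⟩
      · exact Or.inl hs
      · by_cases h1 : x⁻¹ * (g * x * g⁻¹) = 1
        · exact Or.inl (h1.symm ▸ S.one_mem)
        · exact Or.inr ⟨h1, L, hL, hk⟩
    let rep : W → G := fun k => if hh : ∃ g : G, x⁻¹ * (g * x * g⁻¹) = k.1 then hh.choose else 1
    let f : {g : G // IsConj x (x * (g * x * g⁻¹))} → Subgroup.centralizer ({x} : Set G) × W := fun g =>
      (⟨(rep ⟨x⁻¹ * (g.1 * x * g.1⁻¹), hmem g.1 g.2⟩)⁻¹ * g.1, by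
        have hex : ∃ g' : G, x⁻¹ * (g' * x * g'⁻¹) = x⁻¹ * (g.1 * x * g.1⁻¹) := ⟨g.1, rfl⟩
        simp only [rep, dif_pos hex]
        have e := mul_left_cancel hex.choose_spec
        rw [Subgroup.mem_centralizer_singleton_iff]
        generalize hex.choose = c at e ⊢
        calc c⁻¹ * g.1 * x = c⁻¹ * (g.1 * x * g.1⁻¹) * g.1 := by group
          _ = x * (c⁻¹ * g.1) := by rw [← e]; group⟩,
       ⟨x⁻¹ * (g.1 * x * g.1⁻¹), hmem g.1 g.2⟩)
    have hf : Function.Injective f := by
      intro g g' e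
      have e2 := (Prod.ext_iff.1 e).2
      have e1 : (rep ⟨x⁻¹ * (g.1 * x * g.1⁻¹), hmem g.1 g.2⟩)⁻¹ * g.1 =
          (rep ⟨x⁻¹ * (g'.1 * x * g'.1⁻¹), hmem g'.1 g'.2⟩)⁻¹ * g'.1 := congrArg Subtype.val (Prod.ext_iff.1 e).1
      simp only [f] at e2
      rw [e2] at e1
      exact Subtype.ext (mul_left_cancel e1)
    have := Nat.card_le_card_of_injective f hf
    rwa [Nat.card_prod, h.centralizer_card hx hx1, Nat.card_coe_set_eq] at this
  have hWc : W.ncard ≤ 9 + (invUnion x).ncard := by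
    refine (Set.ncard_union_le _ _).trans (Nat.add_le_add_right (le_of_eq ?_) _)
    rw [← Nat.card_coe_set_eq]; exact h.cc.card
  have : 9 * N ≤ 81 * (9 + (invUnion x).ncard) := by omega
  exact_mod_cast this

end H59.Nine.One
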