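import Mathlib

/-!
Arithmetic of the degrees of the characters that do not vanish on the class: the terms `v · d` are
congruent to one modulo nine, have sum minus one and square-weights adding to eight.
-/

set_option autoImplicit false
set_option linter.unusedSectionVars false

namespace H59.Nine.One

open Finset

/-- a number built from `2` and at most `b` factors `q` -/
def IsDeg (q b d : ℕ) : Prop := ∃ i j, j ≤ b ∧ d = 2 ^ i * q ^ j

theorem IsDeg.eq_of_prime {q b d r : ℕ} (h : IsDeg q b d) (hq : q.Prime) (hr : r.Prime) (hd : r ∣ d) :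
    r = 2 ∨ r = q := by
  obtain ⟨i, j, -, rfl⟩ := h
  rcases hr.dvd_mul.1 hd with e | e
  · exact Or.inl ((Nat.prime_dvd_prime_iff_eq hr Nat.prime_two).1 (hr.dvd_of_dvd_pow e))
  · exact Or.inr ((Nat.prime_dvd_prime_iff_eq hr hq).1 (hr.dvd_of_dvd_pow e))

theorem IsDeg.ne_55 {q b d : ℕ} (h : IsDeg q b d) (hq : q.Prime) : d ≠ 55 := by
  rintro rfl
  have h5 := h.eq_of_prime hq (r := 5) (by norm_num) (by norm_num)
  have h11 := h.eq_of_prime hq (r := 11) (by norm_num) (by norm_num)
  omega

/-- no small degree other than eight is minus one modulo nine -/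
def NegBound (q b N : ℕ) : Prop := ∀ d, d % 9 = 8 → IsDeg q b d → d ≠ q → d = 8 ∨ N ≤ d

theorem negBound_seventeen_lt {q b : ℕ} : NegBound q b 17 := fun d h _ _ => by omega

theorem negBound_twentysix {q b : ℕ} (hq : q.Prime) : NegBound q b 26 := by
  intro d h hs hne
  by_contra hc
  push Not at hc
  obtain ⟨h8, hN⟩ := hc
  obtain rfl : d = 17 := by omega
  have := hs.eq_of_prime hq (r := 17) (by norm_num) (by norm_num)
  omega

/-- the prime factors of the candidates below eighty -/
theorem negBound_eighty {q b : ℕ} (hq : q.Prime) (h : q = 5 ∨ q = 7 ∨ q = 17) : NegBound q b 80 := by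
  intro d hd hs hne
  by_contra hc
  push Not at hc
  obtain ⟨h8, hN⟩ := hc
  have key : ∀ r : ℕ, r.Prime → r ∣ d → r = 2 ∨ r = q := fun r hr hrd => hs.eq_of_prime hq hr hrd
  have hcases : d = 17 ∨ d = 26 ∨ d = 35 ∨ d = 44 ∨ d = 53 ∨ d = 62 ∨ d = 71 := by omega
  rcases hcases with rfl | rfl | rfl | rfl | rfl | rfl | rfl
  · have := key 17 (by norm_num) (by norm_num); omega
  · have := key 13 (by norm_num) (by norm_num); omega
  · have := key 5 (by norm_num) (by norm_num); have := key 7 (by norm_num) (by norm_num); omega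
  · have := key 11 (by norm_num) (by norm_num); omega
  · have := key 53 (by norm_num) (by norm_num); omega
  · have := key 31 (by norm_num) (by norm_num); omega
  · have := key 71 (by norm_num) (by norm_num); omega

theorem negBound_thirtyfive {q b : ℕ} (hq : q.Prime) (h : q ≠ 13) : NegBound q b 35 := by
  intro d hd hs hne
  by_contra hc
  push Not at hc
  obtain ⟨h8, hN⟩ := hc
  rcases (show d = 17 ∨ d = 26 by omega) with rfl | rfl
  · have := hs.eq_of_prime hq (r := 17) (by norm_num) (by norm_num); omega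
  · have := hs.eq_of_prime hq (r := 13) (by norm_num) (by norm_num); omega

/-- the data attached to the nonvanishing non-principal characters -/
structure Terms {ι : Type*} (s : Finset ι) (v : ι → ℤ) (d : ι → ℕ) (q b : ℕ) : Prop where
  prime : q.Prime
  val : ∀ k ∈ s, v k = 1 ∨ v k = -1 ∨ v k = 2 ∨ v k = -2
  sq : ∑ k ∈ s, v k * v k = 8
  lin : ∑ k ∈ s, (d k : ℤ) * v k = -1
  cong : ∀ k ∈ s, (9 : ℤ) ∣ (d k : ℤ) - v k
  shape : ∀ k ∈ s, IsDeg q b (d k)
  two_le : ∀ k ∈ s, 2 ≤ d k
  neq : ∀ k ∈ s, d k ≠ q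

variable {ι : Type*} {s : Finset ι} {v : ι → ℤ} {d : ι → ℕ} {q b : ℕ}

/-- the weighted sum -/
noncomputable def weight (s : Finset ι) (v : ι → ℤ) (d : ι → ℕ) : ℝ :=
  ∑ k ∈ s, (v k : ℝ) * v k * v k / (d k : ℝ)

/-- the signed degree -/
def term (v : ι → ℤ) (d : ι → ℕ) (k : ι) : ℤ := (d k : ℤ) * v k

/-- the eights in a set -/
def eights (t : Finset ι) (v : ι → ℤ) (d : ι → ℕ) : Finset ι :=
  t.filter fun k => v k = -1 ∧ d k = 8

/-- the others -/
def others (t : Finset ι) (v : ι → ℤ) (d : ι → ℕ) : Finset ι :=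
  t.filter fun k => ¬ (v k = -1 ∧ d k = 8)

theorem eights_add_others (t : Finset ι) : (eights t v d).card + (others t v d).card = t.card := by
  exact card_filter_add_card_filter_not _

theorem sum_others (t : Finset ι) :
    ∑ k ∈ others t v d, term v d k = (∑ k ∈ t, term v d k) + 8 * (eights t v d).card := by
  have h := sum_filter_add_sum_filter_not t (fun k => v k = -1 ∧ d k = 8) (term v d)
  have h8 : ∑ k ∈ eights t v d, term v d k = -8 * ((eights t v d).card : ℤ) := by
    rw [sum_congr rfl (g := fun _ => (-8 : ℤ)) (fun k hk => by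
      simp only [eights, mem_filter] at hk
      simp [term, hk.2.1, hk.2.2]), sum_const, nsmul_eq_mul]
    ring
  simp only [others, eights] at h h8 ⊢
  omega

theorem weight_ge (h : Terms s v d q b) {N : ℕ} (hN : NegBound q b N) (hN0 : 0 < N) {t : Finset ι} (ht : t ⊆ s)
    (h1 : ∀ k ∈ t, v k = 1 ∨ v k = -1) :
    -((eights t v d).card : ℝ) / 8 - ((others t v d).card : ℝ) / N ≤ weight t v d := by
  unfold weight
  rw [← sum_filter_add_sum_filter_not t (fun k => v k = -1 ∧ d k = 8) fun k => (v k : ℝ) * v k * v k / (d k : ℝ)]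
  have h8 : ∑ k ∈ eights t v d, (v k : ℝ) * v k * v k / (d k : ℝ) = -((eights t v d).card : ℝ) / 8 := by
    rw [sum_congr rfl (g := fun _ => (-1 / 8 : ℝ)) (fun k hk => by
      simp only [eights, mem_filter] at hk
      rw [hk.2.1, hk.2.2]; norm_num), sum_const, nsmul_eq_mul]
    ring
  have ho : -((others t v d).card : ℝ) / N ≤ ∑ k ∈ others t v d, (v k : ℝ) * v k * v k / (d k : ℝ) := by
    rw [show -((others t v d).card : ℝ) / N = ∑ _k ∈ others t v d, (-1 / (N : ℝ)) by
      rw [sum_const, nsmul_eq_mul]; ring]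
    refine sum_le_sum fun k hk => ?_
    simp only [others, mem_filter] at hk
    have hd : (0 : ℝ) < d k := by exact_mod_cast (h.two_le k (ht hk.1)).trans_lt' two_pos
    have hN' : (0 : ℝ) < N := by exact_mod_cast hN0
    rcases h1 k hk.1 with e | e <;> rw [e] <;> push_cast
    · have : (0 : ℝ) ≤ 1 * 1 * 1 / (d k : ℝ) := by positivity
      have : -1 / (N : ℝ) ≤ 0 := div_nonpos_of_nonpos_of_nonneg (by norm_num) hN'.le
      linarith
    · have hc := h.cong k (ht hk.1)
      rw [e] at hc
      have hmod : d k % 9 = 8 := by omega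
      rcases hN _ hmod (h.shape k (ht hk.1)) (h.neq k (ht hk.1)) with e8 | e8
      · exact absurd ⟨e, e8⟩ hk.2
      · have hle : (N : ℝ) ≤ d k := by exact_mod_cast e8
        rw [show ((-1 : ℝ) * -1 * -1) = -1 by norm_num, neg_div, neg_div]
        exact neg_le_neg (one_div_le_one_div_of_le hN' hle)
  simp only [others, eights] at h8 ho ⊢
  rw [h8]
  have e1 : ((t.filter fun k => ¬ (v k = -1 ∧ d k = 8)).card : ℝ) / N =
      ((t.filter fun k => ¬ (v k = -1 ∧ d k = 8)).card : ℝ) / N := rfl
  rw [neg_div] at ho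
  linarith

theorem term_natAbs (h : Terms s v d q b) {k : ι} (hk : k ∈ s) (h1 : v k = 1 ∨ v k = -1) :
    (term v d k).natAbs = d k ∧ term v d k % 9 = 1 := by
  have hc := h.cong k hk
  rcases h1 with e | e <;> rw [e] at hc <;> simp only [term, e] <;> constructor <;> omega

/-- the two shapes -/
theorem Terms.pattern (h : Terms s v d q b) :
    (s.card = 8 ∧ ∀ k ∈ s, v k = 1 ∨ v k = -1) ∨
    ∃ k0 ∈ s, (v k0 = 2 ∨ v k0 = -2) ∧ (∀ t : Finset ι, (∀ k, k ∈ t ↔ k ∈ s ∧ k ≠ k0) →
      t.card = 4 ∧ ∀ k ∈ t, v k = 1 ∨ v k = -1) := by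
  classical
  set T := s.filter fun k => v k = 2 ∨ v k = -2 with hT
  set U := s.filter fun k => ¬ (v k = 2 ∨ v k = -2) with hU
  have hU1 : ∀ k ∈ U, v k = 1 ∨ v k = -1 := by
    intro k hk
    rw [hU, mem_filter] at hk
    rcases h.val k hk.1 with e | e | e | e
    · exact Or.inl e
    · exact Or.inr e
    · exact absurd (Or.inl e) hk.2
    · exact absurd (Or.inr e) hk.2
  have hsum := sum_filter_add_sum_filter_not s (fun k => v k = 2 ∨ v k = -2) fun k => v k * v k
  have hc1 : ∑ k ∈ T, v k * v k = 4 * (T.card : ℤ) := by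
    rw [sum_congr rfl (g := fun _ => (4 : ℤ)) (fun k hk => by
      rw [hT, mem_filter] at hk
      rcases hk.2 with e | e <;> rw [e] <;> norm_num), sum_const, nsmul_eq_mul]
    ring
  have hc2 : ∑ k ∈ U, v k * v k = (U.card : ℤ) := by
    rw [sum_congr rfl (g := fun _ => (1 : ℤ)) (fun k hk => by
      rcases hU1 k hk with e | e <;> rw [e] <;> norm_num), sum_const, nsmul_eq_mul]
    ring
  rw [h.sq, ← hT, ← hU, hc1, hc2] at hsum
  have hcases : (T.card = 0 ∧ U.card = 8) ∨ (T.card = 1 ∧ U.card = 4) ∨ (T.card = 2 ∧ U.card = 0) := by omega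
  rcases hcases with ⟨hT0, hU8⟩ | ⟨hT1, hU4⟩ | ⟨hT2, hU0⟩
  · have hsU : U = s := filter_true_of_mem fun k hk hc =>
      Finset.notMem_empty k ((card_eq_zero.1 hT0) ▸ mem_filter.2 ⟨hk, hc⟩)
    exact Or.inl ⟨hsU ▸ hU8, fun k hk => hU1 k (hsU.symm ▸ hk)⟩
  · obtain ⟨k0, hk0⟩ := card_eq_one.1 hT1
    have hk0T : k0 ∈ T := by rw [hk0]; exact mem_singleton_self k0
    rw [hT, mem_filter] at hk0T
    refine Or.inr ⟨k0, hk0T.1, hk0T.2, fun t ht => ?_⟩
    have : t = U := by
      ext k
      rw [ht, hU, mem_filter]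
      refine and_congr_right fun hk => ⟨fun hne hc => hne ?_, fun hc e => hc (e ▸ hk0T.2)⟩
      exact mem_singleton.1 (hk0 ▸ mem_filter.2 ⟨hk, hc⟩)
    exact this ▸ ⟨hU4, hU1⟩
  · exfalso
    have hsT : T = s := filter_true_of_mem fun k hk => by
      by_contra hc
      exact Finset.notMem_empty k ((card_eq_zero.1 hU0) ▸ mem_filter.2 ⟨hk, hc⟩)
    have h2 : (2 : ℤ) ∣ ∑ k ∈ s, (d k : ℤ) * v k := dvd_sum fun k hk => by
      rw [← hsT, hT, mem_filter] at hk
      rcases hk.2 with e | e <;> rw [e]
      · exact dvd_mul_left _ _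
      · exact (dvd_neg.2 dvd_rfl : (2 : ℤ) ∣ -2).mul_left _
    rw [h.lin] at h2
    norm_num at h2

/-- a single other term -/
theorem others_one (h : Terms s v d q b) {t : Finset ι} (ht : t ⊆ s) (h1 : ∀ k ∈ t, v k = 1 ∨ v k = -1)
    {T : ℤ} (hT : ∑ k ∈ t, term v d k = T) (hc : (others t v d).card = 1) :
    ∃ k ∈ t, d k = (T + 8 * (eights t v d).card).natAbs ∧ term v d k = T + 8 * (eights t v d).card := by
  classical
  obtain ⟨k, hk⟩ := card_eq_one.1 hc
  have hs := sum_others (v := v) (d := d) t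
  rw [hk, sum_singleton, hT] at hs
  have hkt : k ∈ t := (mem_filter.1 (show k ∈ others t v d by rw [hk]; exact mem_singleton_self k)).1
  exact ⟨k, hkt, by rw [← hs, (term_natAbs h (ht hkt) (h1 k hkt)).1], hs⟩

theorem eights_le_seven (h : Terms s v d q b) {t : Finset ι} (ht : t ⊆ s) (h1 : ∀ k ∈ t, v k = 1 ∨ v k = -1)
    {T : ℤ} (hT : ∑ k ∈ t, term v d k = T) (hc : (others t v d).card = 1)
    (he : T + 8 * (eights t v d).card = 55) : False := by
  obtain ⟨k, hk, hd, -⟩ := others_one h ht h1 hT hc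
  rw [he] at hd
  exact (h.shape k (ht hk)).ne_55 h.prime hd

theorem others_none {t : Finset ι} {T : ℤ} (hT : ∑ k ∈ t, term v d k = T) (hc : (others t v d).card = 0) :
    T + 8 * (eights t v d).card = 0 := by
  have hs := sum_others (v := v) (d := d) t
  rw [card_eq_zero.1 hc, sum_empty, hT] at hs
  omega

/-- the cases: the numbers of eights -/
theorem Terms.cases (h : Terms s v d q b) :
    (s.card = 8 ∧ (∀ k ∈ s, v k = 1 ∨ v k = -1) ∧ (eights s v d).card ≤ 6) ∨
    ∃ (k0 : ι) (t : Finset ι), k0 ∈ s ∧ t ⊆ s ∧ k0 ∉ t ∧ t.card = 4 ∧ (∀ k ∈ t, v k = 1 ∨ v k = -1) ∧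
      (∀ g : ι → ℝ, ∑ k ∈ s, g k = g k0 + ∑ k ∈ t, g k) ∧
      (∑ k ∈ t, term v d k = -1 - term v d k0) ∧
      ((v k0 = -2 ∧ d k0 = 16 ∧ (eights t v d).card ≤ 2) ∨
       (v k0 = -2 ∧ 25 ≤ d k0 ∧ (eights t v d).card ≤ 3) ∨ v k0 = 2) := by
  classical
  rcases h.pattern with ⟨h8, h1⟩ | ⟨k0, hk0, hv0, ht'⟩
  · refine Or.inl ⟨h8, h1, ?_⟩
    have hT : ∑ k ∈ s, term v d k = -1 := h.lin
    have hsplit := eights_add_others (v := v) (d := d) s
    by_contra hc
    rcases (show (eights s v d).card = 7 ∨ (eights s v d).card = 8 by omega) with e | e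
    · exact eights_le_seven h Subset.rfl h1 hT (by omega) (by rw [e]; norm_num)
    · have := others_none hT (by omega)
      rw [e] at this; norm_num at this
  · obtain ⟨htc, ht1⟩ := ht' (s.erase k0) fun k => by rw [mem_erase]; tauto
    have hsum : ∑ k ∈ s.erase k0, term v d k = -1 - term v d k0 := by
      have h' := add_sum_erase s (term v d) hk0
      have hl : ∑ k ∈ s, term v d k = -1 := h.lin
      omega
    refine Or.inr ⟨k0, s.erase k0, hk0, erase_subset _ _, notMem_erase _ _, htc, ht1,
      fun g => (add_sum_erase s g hk0).symm, hsum, ?_⟩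
    rcases hv0 with e | e
    · exact Or.inr (Or.inr e)
    have hc := h.cong k0 hk0
    rw [e] at hc
    have hd7 : d k0 = 16 ∨ 25 ≤ d k0 := by
      have h2 := h.two_le k0 hk0
      have hmod : d k0 % 9 = 7 := by omega
      rcases eq_or_ne (d k0) 7 with e7 | e7
      · have := (h.shape k0 hk0).eq_of_prime h.prime (r := 7) (by norm_num) (by rw [e7])
        have := h.neq k0 hk0
        omega
      · omega
    have hsplit := eights_add_others (v := v) (d := d) (s.erase k0)
    have hterm : term v d k0 = -2 * (d k0 : ℤ) := by simp [term, e]; ring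
    rcases hd7 with e16 | e25
    · refine Or.inl ⟨e, e16, ?_⟩
      rw [hterm, e16] at hsum
      by_contra hk
      rcases (show (eights (s.erase k0) v d).card = 3 ∨ (eights (s.erase k0) v d).card = 4 by omega) with e' | e'
      · exact eights_le_seven h (erase_subset _ _) ht1 hsum (by omega) (by rw [e']; norm_num)
      · have := others_none hsum (by omega)
        rw [e'] at this; norm_num at this
    · refine Or.inr (Or.inl ⟨e, e25, ?_⟩)
      by_contra hk
      have := others_none hsum (by omega)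
      rw [hterm] at this
      omega

/-- the general lower bound -/
theorem Terms.weight_lower (h : Terms s v d q b) {N : ℕ} (hN : NegBound q b N) (hN8 : 8 ≤ N) :
    -(3 / 4 : ℝ) - 2 / N ≤ weight s v d := by
  have hN' : (0 : ℝ) < N := by exact_mod_cast (show 0 < N by omega)
  have hN1 : (1 : ℝ) / N ≤ 1 / 8 := one_div_le_one_div_of_le (by norm_num) (by exact_mod_cast hN8)
  rcases h.cases with ⟨h8, h1, hk⟩ | ⟨k0, t, hk0, hts, -, ht4, ht1, hsum, -, hcase⟩
  · have hb := weight_ge h hN (by omega) Subset.rfl h1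
    have hsplit := eights_add_others (v := v) (d := d) s
    rw [h8] at hsplit
    have hs' : ((others s v d).card : ℝ) = 8 - ((eights s v d).card : ℝ) := by
      have : ((eights s v d).card : ℝ) + ((others s v d).card : ℝ) = 8 := by exact_mod_cast hsplit
      linarith
    rw [hs'] at hb
    have hkR : ((eights s v d).card : ℝ) ≤ 6 := by exact_mod_cast hk
    have e : -((eights s v d).card : ℝ) / 8 - (8 - ((eights s v d).card : ℝ)) / N =
        -((eights s v d).card : ℝ) * (1 / 8 - 1 / N) - 8 / N := by ring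
    rw [e] at hb
    have : ((eights s v d).card : ℝ) * (1 / 8 - 1 / N) ≤ 6 * (1 / 8 - 1 / N) :=
      mul_le_mul_of_nonneg_right hkR (by linarith)
    have e2 : -(6 : ℝ) * (1 / 8 - 1 / N) - 8 / N = -(3 / 4) - 2 / N := by ring
    linarith
  · have hb := weight_ge h hN (by omega) hts ht1
    have hsplit := eights_add_others (v := v) (d := d) t
    rw [ht4] at hsplit
    have hs' : ((others t v d).card : ℝ) = 4 - ((eights t v d).card : ℝ) := by
      have : ((eights t v d).card : ℝ) + ((others t v d).card : ℝ) = 4 := by exact_mod_cast hsplit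
      linarith
    rw [hs'] at hb
    have hw : weight s v d = (v k0 : ℝ) * v k0 * v k0 / (d k0 : ℝ) + weight t v d := hsum _
    have e : -((eights t v d).card : ℝ) / 8 - (4 - ((eights t v d).card : ℝ)) / N =
        -((eights t v d).card : ℝ) * (1 / 8 - 1 / N) - 4 / N := by ring
    rw [e] at hb
    have hmono : ∀ m : ℝ, ((eights t v d).card : ℝ) ≤ m →
        ((eights t v d).card : ℝ) * (1 / 8 - 1 / N) ≤ m * (1 / 8 - 1 / N) :=
      fun m hm => mul_le_mul_of_nonneg_right hm (by linarith)
    have e2 : (2 : ℝ) / N = 2 * (1 / N) := by ring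
    have e4 : (4 : ℝ) / N = 4 * (1 / N) := by ring
    have hN0 : (0 : ℝ) ≤ 1 / N := by positivity
    rcases hcase with ⟨ev, ed, hk⟩ | ⟨ev, ed, hk⟩ | ev
    · rw [ev, ed] at hw
      have := hmono 2 (by exact_mod_cast hk)
      push_cast at hw
      linarith
    · rw [ev] at hw
      have hd : (25 : ℝ) ≤ d k0 := by exact_mod_cast ed
      have hdiv : (8 : ℝ) / (d k0 : ℝ) ≤ 8 / 25 := div_le_div_of_nonneg_left (by norm_num) (by norm_num) hd
      have := hmono 3 (by exact_mod_cast hk)
      have e8 : (((-2 : ℤ) : ℝ)) * ((-2 : ℤ) : ℝ) * ((-2 : ℤ) : ℝ) / (d k0 : ℝ) = -(8 / (d k0 : ℝ)) := by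
        push_cast; ring
      rw [e8] at hw
      linarith
    · rw [ev] at hw
      have := hmono 4 (by exact_mod_cast (show (eights t v d).card ≤ 4 by omega))
      have : (0 : ℝ) ≤ (((2 : ℤ) : ℝ)) * ((2 : ℤ) : ℝ) * ((2 : ℤ) : ℝ) / (d k0 : ℝ) := by positivity
      linarith

/-! ### `q = 5` with three factors -/

/-- what a term can be when `q = 5` and `b = 3` -/
theorem five_term (h : Terms s v d 5 3) {k : ι} (hk : k ∈ s) (h1 : v k = 1 ∨ v k = -1) :
    term v d k = -125 ∨
      (2 ∣ term v d k ∧ (8 ∣ term v d k ∨ term v d k = 10 ∨ term v d k = 100)) := by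
  obtain ⟨hab, hmod⟩ := term_natAbs h hk h1
  obtain ⟨i, j, hj, he⟩ := h.shape k hk
  have h2 := h.two_le k hk
  rcases (show i = 0 ∨ i = 1 ∨ i = 2 ∨ 3 ≤ i by omega) with rfl | rfl | rfl | hi
  · interval_cases j <;> norm_num at he <;> omega
  · interval_cases j <;> norm_num at he <;> omega
  · interval_cases j <;> norm_num at he <;> omega
  · have h8 : 8 ∣ d k := he ▸ ((pow_dvd_pow 2 hi).mul_right _)
    omega

/-- three terms with sum `39` -/
theorem five_three (h : Terms s v d 5 3) {k1 k2 k3 : ι} (hk1 : k1 ∈ s) (hk2 : k2 ∈ s) (hk3 : k3 ∈ s)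
    (h1 : v k1 = 1 ∨ v k1 = -1) (h2 : v k2 = 1 ∨ v k2 = -1) (h3 : v k3 = 1 ∨ v k3 = -1)
    (hsum : term v d k1 + term v d k2 + term v d k3 = 39) :
    ∀ k, (k = k1 ∨ k = k2 ∨ k = k3) → term v d k = -125 ∨ term v d k = 100 ∨ term v d k = 64 := by
  have a1 := five_term h hk1 h1
  have a2 := five_term h hk2 h2
  have a3 := five_term h hk3 h3
  rintro k (rfl | rfl | rfl) <;> omega

theorem five_two_no (h : Terms s v d 5 3) {k1 k2 : ι} (hk1 : k1 ∈ s) (hk2 : k2 ∈ s)
    (h1 : v k1 = 1 ∨ v k1 = -1) (h2 : v k2 = 1 ∨ v k2 = -1) {T : ℤ} (hT : T = 47 ∨ T = 65)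
    (hsum : term v d k1 + term v d k2 = T) : False := by
  have a1 := five_term h hk1 h1
  have a2 := five_term h hk2 h2
  obtain ⟨hab1, hmod1⟩ := term_natAbs h hk1 h1
  obtain ⟨hab2, hmod2⟩ := term_natAbs h hk2 h2
  have key : ∀ (k : ι) (r : ℕ), k ∈ s → r.Prime → r ≠ 2 → r ≠ 5 → r ∣ d k → False := fun k r hk hr h2' h5' hd =>
    ((h.shape k hk).eq_of_prime h.prime hr hd).elim h2' h5'
  rcases a1 with e1 | e1 <;> rcases a2 with e2 | e2
  · omega
  · rcases hT with rfl | rfl
    · exact key k2 43 hk2 (by norm_num) (by norm_num) (by norm_num) (by omega)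
    · exact key k2 19 hk2 (by norm_num) (by norm_num) (by norm_num) (by omega)
  · rcases hT with rfl | rfl
    · exact key k1 43 hk1 (by norm_num) (by norm_num) (by norm_num) (by omega)
    · exact key k1 19 hk1 (by norm_num) (by norm_num) (by norm_num) (by omega)
  · omega

/-- the only possible degrees -/
theorem Terms.five_degrees (h : Terms s v d 5 3) (hw : weight s v d ≤ -(5577 : ℝ) / 10000) :
    (∀ k ∈ s, d k = 8 ∨ d k = 16 ∨ d k = 64 ∨ (d k = 100 ∧ v k = 1) ∨ (d k = 125 ∧ v k = -1)) ∧
      (∃! k, k ∈ s ∧ d k = 100) ∧ ∃! k, k ∈ s ∧ d k = 125 := by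
  classical
  have hN := negBound_eighty (q := 5) (b := 3) (by norm_num) (Or.inl rfl)
  -- reduce to three other terms with sum `39`
  obtain ⟨t, hts, ht1, hsub, hrest, ho3, hsum39⟩ :
      ∃ t : Finset ι, t ⊆ s ∧ (∀ k ∈ t, v k = 1 ∨ v k = -1) ∧ (others t v d) ⊆ s ∧
        (∀ k ∈ s, k ∉ others t v d → d k = 8 ∨ d k = 16) ∧ (others t v d).card = 3 ∧
        ∑ k ∈ others t v d, term v d k = 39 := by
    have hrest8 : ∀ (t : Finset ι) (k : ι), k ∈ t → k ∉ others t v d → d k = 8 := fun t k hk hn => by
      by_contra hc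
      exact hn (mem_filter.2 ⟨hk, fun e => hc e.2⟩)
    rcases h.cases with ⟨h8, h1, hk⟩ | ⟨k0, t, hk0, hts, hk0t, ht4, ht1, hsum, hsumt, hcase⟩
    · have hb := weight_ge h hN (by norm_num) Subset.rfl h1
      have hsplit := eights_add_others (v := v) (d := d) s
      rw [h8] at hsplit
      have hs' : ((others s v d).card : ℝ) = 8 - ((eights s v d).card : ℝ) := by
        have : ((eights s v d).card : ℝ) + ((others s v d).card : ℝ) = 8 := by exact_mod_cast hsplit
        linarith
      rw [hs'] at hb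
      have hk5 : 5 ≤ (eights s v d).card := by
        by_contra hc
        have : ((eights s v d).card : ℝ) ≤ 4 := by exact_mod_cast (show (eights s v d).card ≤ 4 by omega)
        push_cast at hb
        linarith
      have hT : ∑ k ∈ s, term v d k = -1 := h.lin
      have hso := sum_others (v := v) (d := d) s
      rw [hT] at hso
      rcases (show (eights s v d).card = 5 ∨ (eights s v d).card = 6 by omega) with e | e
      · refine ⟨s, Subset.rfl, h1, filter_subset _ _, fun k hk hn => Or.inl (hrest8 s k hk hn), by omega, ?_⟩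
        rw [hso, e]; norm_num
      · exfalso
        obtain ⟨k1, k2, h12, heq⟩ := card_eq_two.1 (show (others s v d).card = 2 by omega)
        rw [heq, sum_pair h12] at hso
        have hm1 : k1 ∈ others s v d := by rw [heq]; simp
        have hm2 : k2 ∈ others s v d := by rw [heq]; simp
        exact five_two_no h (mem_filter.1 hm1).1 (mem_filter.1 hm2).1 (h1 _ (mem_filter.1 hm1).1)
          (h1 _ (mem_filter.1 hm2).1) (Or.inl rfl) (by rw [hso, e]; norm_num)
    · have hb := weight_ge h hN (by norm_num) hts ht1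
      have hsplit := eights_add_others (v := v) (d := d) t
      rw [ht4] at hsplit
      have hs' : ((others t v d).card : ℝ) = 4 - ((eights t v d).card : ℝ) := by
        have : ((eights t v d).card : ℝ) + ((others t v d).card : ℝ) = 4 := by exact_mod_cast hsplit
        linarith
      rw [hs'] at hb
      push_cast at hb
      have hw0 : weight s v d = (v k0 : ℝ) * v k0 * v k0 / (d k0 : ℝ) + weight t v d := hsum _
      have hso := sum_others (v := v) (d := d) t
      rw [hsumt] at hso
      have hk4 : ((eights t v d).card : ℝ) ≤ 4 := by exact_mod_cast (show (eights t v d).card ≤ 4 by omega)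
      rcases hcase with ⟨ev, ed, hk⟩ | ⟨ev, ed, hk⟩ | ev
      · rw [ev, ed] at hw0
        push_cast at hw0
        have hk1 : 1 ≤ (eights t v d).card := by
          by_contra hc
          have : ((eights t v d).card : ℝ) = 0 := by exact_mod_cast (show (eights t v d).card = 0 by omega)
          linarith
        have hterm : term v d k0 = -32 := by simp [term, ev, ed]
        rw [hterm] at hso
        rcases (show (eights t v d).card = 1 ∨ (eights t v d).card = 2 by omega) with e | e
        · refine ⟨t, hts, ht1, (filter_subset _ _).trans hts, fun k hk hn => ?_, by omega, ?_⟩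
          · by_cases hkt : k ∈ t
            · exact Or.inl (hrest8 t k hkt hn)
            · have hz : ∀ g : ι → ℝ, g k0 + ∑ x ∈ t, g x = ∑ x ∈ s, g x := fun g => (hsum g).symm
              by_cases hkk : k = k0
              · exact Or.inr (hkk ▸ ed)
              · exfalso
                have := hz fun x => if x = k then 1 else 0
                rw [if_neg (Ne.symm hkk), sum_ite_eq' t k (fun _ => (1 : ℝ)), if_neg hkt,
                  sum_ite_eq' s k (fun _ => (1 : ℝ)), if_pos hk] at this
                norm_num at this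
          · rw [hso, e]; norm_num
        · exfalso
          obtain ⟨k1, k2, h12, heq⟩ := card_eq_two.1 (show (others t v d).card = 2 by omega)
          rw [heq, sum_pair h12] at hso
          have hm1 : k1 ∈ others t v d := by rw [heq]; simp
          have hm2 : k2 ∈ others t v d := by rw [heq]; simp
          exact five_two_no h (hts (mem_filter.1 hm1).1) (hts (mem_filter.1 hm2).1)
            (ht1 _ (mem_filter.1 hm1).1) (ht1 _ (mem_filter.1 hm2).1) (Or.inl rfl) (by rw [hso, e]; norm_num)
      · exfalso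
        have hd : d k0 = 25 ∨ 80 ≤ d k0 := by
          have hc := h.cong k0 hk0
          rw [ev] at hc
          have hmod : d k0 % 9 = 7 := by omega
          by_contra hne
          push Not at hne
          have key : ∀ r : ℕ, r.Prime → r ∣ d k0 → r = 2 ∨ r = 5 := fun r hr hrd =>
            (h.shape k0 hk0).eq_of_prime h.prime hr hrd
          rcases (show d k0 = 34 ∨ d k0 = 43 ∨ d k0 = 52 ∨ d k0 = 61 ∨ d k0 = 70 ∨ d k0 = 79 by omega)
            with e | e | e | e | e | e
          · have := key 17 (by norm_num) (by rw [e]; norm_num); omega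
          · have := key 43 (by norm_num) (by rw [e]); omega
          · have := key 13 (by norm_num) (by rw [e]; norm_num); omega
          · have := key 61 (by norm_num) (by rw [e]); omega
          · have := key 7 (by norm_num) (by rw [e]; norm_num); omega
          · have := key 79 (by norm_num) (by rw [e]); omega
        have hterm : term v d k0 = -2 * (d k0 : ℤ) := by simp [term, ev]; ring
        rw [hterm] at hso
        rcases hd with ed' | ed'
        · rw [ev, ed'] at hw0
          push_cast at hw0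
          have hk2 : 2 ≤ (eights t v d).card := by
            by_contra hc
            have : ((eights t v d).card : ℝ) ≤ 1 := by exact_mod_cast (show (eights t v d).card ≤ 1 by omega)
            linarith
          rw [ed'] at hso
          rcases (show (eights t v d).card = 2 ∨ (eights t v d).card = 3 by omega) with e | e
          · obtain ⟨k1, k2, h12, heq⟩ := card_eq_two.1 (show (others t v d).card = 2 by omega)
            rw [heq, sum_pair h12] at hso
            have hm1 : k1 ∈ others t v d := by rw [heq]; simp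
            have hm2 : k2 ∈ others t v d := by rw [heq]; simp
            exact five_two_no h (hts (mem_filter.1 hm1).1) (hts (mem_filter.1 hm2).1)
              (ht1 _ (mem_filter.1 hm1).1) (ht1 _ (mem_filter.1 hm2).1) (Or.inr rfl) (by rw [hso, e]; norm_num)
          · obtain ⟨k, hk', hd', -⟩ := others_one h hts ht1 hsumt (by omega)
            rw [hterm, ed', e] at hd'
            norm_num at hd'
            exact ((h.shape k (hts hk')).eq_of_prime h.prime (r := 73) (by norm_num) (by rw [hd'])).elim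
              (by norm_num) (by norm_num)
        · have hd80 : (80 : ℝ) ≤ d k0 := by exact_mod_cast ed'
          have hdiv : (8 : ℝ) / (d k0 : ℝ) ≤ 8 / 80 := div_le_div_of_nonneg_left (by norm_num) (by norm_num) hd80
          have hk3 : ((eights t v d).card : ℝ) ≤ 3 := by exact_mod_cast hk
          rw [ev] at hw0
          push_cast at hw0
          have e8 : ((-2 : ℝ)) * (-2) * (-2) / (d k0 : ℝ) = -(8 / (d k0 : ℝ)) := by ring
          linarith
      · exfalso
        rw [ev] at hw0
        have : (0 : ℝ) ≤ (((2 : ℤ) : ℝ)) * ((2 : ℤ) : ℝ) * ((2 : ℤ) : ℝ) / (d k0 : ℝ) := by positivity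
        linarith
  obtain ⟨k1, k2, k3, h12, h13, h23, heq⟩ := card_eq_three.1 ho3
  have hm : ∀ k, k = k1 ∨ k = k2 ∨ k = k3 → k ∈ others t v d := by
    intro k hk; rw [heq]; rcases hk with rfl | rfl | rfl <;> simp
  rw [heq, sum_insert (by simp [h12, h13]), sum_pair h23, ← add_assoc] at hsum39
  have h1' : ∀ k, k = k1 ∨ k = k2 ∨ k = k3 → v k = 1 ∨ v k = -1 := fun k hk =>
    ht1 k (mem_filter.1 (hm k hk)).1
  have htri := five_three h (hsub (hm k1 (Or.inl rfl))) (hsub (hm k2 (Or.inr (Or.inl rfl))))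
    (hsub (hm k3 (Or.inr (Or.inr rfl)))) (h1' k1 (Or.inl rfl)) (h1' k2 (Or.inr (Or.inl rfl)))
    (h1' k3 (Or.inr (Or.inr rfl))) hsum39
  have hval : ∀ k, k = k1 ∨ k = k2 ∨ k = k3 → (d k : ℤ) = (term v d k).natAbs := fun k hk => by
    rw [(term_natAbs h (hsub (hm k hk)) (h1' k hk)).1]
  have hall : ∀ k ∈ s, (d k = 8 ∨ d k = 16) ∨ (k = k1 ∨ k = k2 ∨ k = k3) := fun k hk => by
    by_cases hko : k ∈ others t v d
    · right; rw [heq] at hko; simpa using hko
    · exact Or.inl (hrest k hk hko)
  have hsigned : ∀ k, k = k1 ∨ k = k2 ∨ k = k3 →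
      (d k = 125 ∧ v k = -1 ∧ term v d k = -125) ∨ (d k = 100 ∧ v k = 1 ∧ term v d k = 100) ∨
        (d k = 64 ∧ term v d k = 64) := by
    intro k hk
    have h2 := h.two_le k (hsub (hm k hk))
    have hd := hval k hk
    rcases htri k hk with e | e | e <;> rcases h1' k hk with e' | e' <;>
      simp [term, e'] at e hd ⊢ <;> omega
  refine ⟨fun k hk => ?_, ?_⟩
  · rcases hall k hk with (e | e) | e
    · exact Or.inl e
    · exact Or.inr (Or.inl e)
    · rcases hsigned k e with ⟨a1, a2, -⟩ | ⟨a1, a2, -⟩ | ⟨a1, -⟩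
      · exact Or.inr (Or.inr (Or.inr (Or.inr ⟨a1, a2⟩)))
      · exact Or.inr (Or.inr (Or.inr (Or.inl ⟨a1, a2⟩)))
      · exact Or.inr (Or.inr (Or.inl a1))
  · have s1 := hsigned k1 (Or.inl rfl)
    have s2 := hsigned k2 (Or.inr (Or.inl rfl))
    have s3 := hsigned k3 (Or.inr (Or.inr rfl))
    have uniq : ∀ D : ℕ, (D = 100 ∨ D = 125) → ∃! k, k ∈ s ∧ d k = D := by
      intro D hD
      obtain ⟨w, hw', hwD⟩ : ∃ w, (w = k1 ∨ w = k2 ∨ w = k3) ∧ d w = D := by
        by_contra hc
        have c1 : d k1 ≠ D := fun e => hc ⟨k1, Or.inl rfl, e⟩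
        have c2 : d k2 ≠ D := fun e => hc ⟨k2, Or.inr (Or.inl rfl), e⟩
        have c3 : d k3 ≠ D := fun e => hc ⟨k3, Or.inr (Or.inr rfl), e⟩
        rcases s1 with a | a | a <;> rcases s2 with b' | b' | b' <;> rcases s3 with c' | c' | c' <;> omega
      refine ⟨w, ⟨hsub (hm w hw'), hwD⟩, fun k ⟨hk, hkD⟩ => ?_⟩
      rcases hall k hk with (e | e) | e
      · omega
      · omega
      · rcases hw' with rfl | rfl | rfl <;> rcases e with rfl | rfl | rfl <;>
          first
          | rfl
          | (exfalso; rcases s1 with a | a | a <;> rcases s2 with b' | b' | b' <;>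
              rcases s3 with c' | c' | c' <;> omega)
    exact ⟨uniq 100 (Or.inl rfl), uniq 125 (Or.inr rfl)⟩

end H59.Nine.One
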