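import Cfsg.Agent.H59.Nine.One.Union
import Cfsg.Agent.H59.Nine.One.Basic
import Cfsg.Agent.H62.Intersect
import Cfsg.Agent.H59.SelfThree.Main
import Cfsg.Agent.H59.SelfThree.KernelA5

/-!
Local facts for one class: elements of order three, and the case `q = 5`, `a = 5`.
-/

set_option autoImplicit false
set_option linter.unusedSectionVars false
set_option linter.style.haveILetI false

namespace H59.Nine.One

open H59.AltSixThree (CC9)
open scoped Classical

universe u

variable {G : Type u} [Group G] [Finite G] {S : Subgroup G}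

/-- a subgroup of `3`-power order is conjugate into the Sylow `3`-subgroup -/
theorem exists_conj_le {P : Sylow 3 G} (hP : (P : Subgroup G) = S) {T : Subgroup G} (hT : IsPGroup 3 T) :
    ∃ c : G, ∀ y ∈ T, c * y * c⁻¹ ∈ S := by
  haveI := Fact.mk Nat.prime_three
  obtain ⟨P', hP'⟩ := hT.exists_le_sylow
  obtain ⟨c, hc⟩ := MulAction.exists_smul_eq G P' P
  refine ⟨c, fun y hy => ?_⟩
  rw [← hP, ← hc, Sylow.coe_subgroup_smul]
  exact ⟨y, hP' hy, rfl⟩

/-- every element of order three -/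
theorem CC9.sf_of_order (h : CC9 S) {P : Sylow 3 G} (hP : (P : Subgroup G) = S) {y : G} (hy : orderOf y = 3) :
    Loc.SF y := by
  haveI := Fact.mk Nat.prime_three
  obtain ⟨c, hc⟩ := exists_conj_le hP (T := Subgroup.zpowers y)
    (IsPGroup.of_card (n := 1) (by rw [Nat.card_zpowers, hy, pow_one]))
  have hcS := hc y (Subgroup.mem_zpowers y)
  have hne : c * y * c⁻¹ ≠ 1 := fun e => by
    rw [conj_eq_one_iff.1 e, orderOf_one] at hy
    norm_num at hy
  have h' := (CC9.sf h hcS hne).conj c⁻¹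
  rwa [show c⁻¹ * (c * y * c⁻¹) * c⁻¹⁻¹ = y by group] at h'

/-- nine does not divide the normaliser of a non-trivial `3'`-subgroup -/
theorem CC9.not_nine_dvd (h : CC9 S) {P : Sylow 3 G} (hP : (P : Subgroup G) = S) {D : Subgroup G}
    (hD1 : D ≠ ⊥) (hD3 : ¬ 3 ∣ Nat.card D) : ¬ 9 ∣ Nat.card (Subgroup.normalizer (D : Set G)) := by
  haveI := Fact.mk Nat.prime_three
  intro h9
  obtain ⟨T, hT⟩ := Sylow.exists_subgroup_card_pow_prime 3 (n := 2)
    (G := Subgroup.normalizer (D : Set G)) (by norm_num; exact h9)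
  set T' := T.map (Subgroup.normalizer (D : Set G)).subtype
  have hT' : Nat.card T' = 9 := by
    rw [Subgroup.card_map_of_injective (Subgroup.subtype_injective _), hT]; norm_num
  obtain ⟨c, hc⟩ := exists_conj_le hP (T := T') (IsPGroup.of_card (n := 2) (by rw [hT']; norm_num))
  have hTS : T'.map (MulAut.conj c).toMonoidHom = S := by
    refine Subgroup.eq_of_le_of_card_ge ?_ ?_
    · rintro _ ⟨y, hy, rfl⟩; exact hc y hy
    · rw [h.card, Subgroup.card_map_of_injective (MulAut.conj c).injective, hT']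
  set D' := D.map (MulAut.conj c).toMonoidHom
  have hD' : D' = ⊥ := by
    refine CC9.inv_normal_trivial h (by rwa [Subgroup.card_map_of_injective (MulAut.conj c).injective]) ?_
    rw [← hTS]
    rintro _ ⟨_, ⟨y, -, rfl⟩, rfl⟩
    have h1 := Subgroup.le_normalizer_map (H := D) (MulAut.conj c).toMonoidHom
      (Subgroup.mem_map_of_mem (MulAut.conj c).toMonoidHom y.2)
    exact h1
  exact hD1 ((Subgroup.map_eq_bot_iff_of_injective _ (MulAut.conj c).injective).1 hD')

variable {q a b : ℕ} [IsSimpleGroup G]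

/-- the case `q = 5`, `a = 5` with ninety six Sylow `5`-subgroups -/
theorem no_five_thirtytwo (h : Shape G 5 5 b) (hS : CC9 S) {P : Sylow 3 G} (hP : (P : Subgroup G) = S)
    (hb : 8 ≤ b) (hn : Nat.card (Sylow 5 G) = 96) : False := by
  haveI : Fact (Nat.Prime 5) := ⟨by norm_num⟩
  haveI : Fact (Nat.Prime 3) := ⟨Nat.prime_three⟩
  have hc : Nat.card G = 5 ^ b * 288 := by rw [h.card]; ring
  obtain ⟨D, M, hD, hM, hMtop, k, d, hk, hik, hdk, hd1, hd5, hdM⟩ :=
    H62.exists_index_of_not_modEq (p := 5) hc (by norm_num) (by omega)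
      (by rw [hn]; simp [Nat.ModEq])
  have hkpos : k ∣ 288 := Dvd.intro_left _ hik
  by_cases h3 : 3 ∣ Nat.card M
  swap
  · have hk3 : ¬ 3 ∣ k := fun e => h3 (hk ▸ e.mul_left _)
    have hk32 : k ∣ 32 := ((Nat.prime_three.coprime_iff_not_dvd.2 hk3).symm.pow_right 2).dvd_of_dvd_mul_left
      (by norm_num; exact hkpos)
    obtain ⟨i, hi, rfl⟩ := (Nat.dvd_prime_pow Nat.prime_two (m := 5)).1 (by norm_num; exact hk32)
    obtain ⟨j, hj, rfl⟩ := (Nat.dvd_prime_pow Nat.prime_two).1 hdk
    have hj4 : 4 ≤ j := by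
      by_contra hlt
      interval_cases j <;> omega
    have hidx : M.index ≤ 18 := by
      have : 2 ^ 4 ≤ 2 ^ i := Nat.pow_le_pow_right (by norm_num) (by omega)
      by_contra hlt
      have := Nat.mul_le_mul (show 19 ≤ M.index by omega) this
      omega
    have h1 := (H62.two_mul_card_dvd_factorial h.comm M hMtop).trans
      (Nat.factorial_dvd_factorial hidx)
    have h2 : 5 ^ 8 ∣ Nat.factorial 18 :=
      ((Dvd.intro _ hc.symm : 5 ^ b ∣ Nat.card G).trans (dvd_mul_left _ 2) |>.trans h1) |>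
        (pow_dvd_pow 5 hb).trans
    norm_num [Nat.factorial] at h2
  obtain ⟨⟨y, hyM⟩, hy⟩ := exists_prime_orderOf_dvd_card' (G := M) 3 h3
  rw [Subgroup.orderOf_mk] at hy
  have hsf := CC9.sf_of_order hS hP hy
  have hD1 : D ≠ ⊥ := fun e => by
    rw [e, Subgroup.card_bot] at hD
    have : 1 < 5 ^ (b - 1) := Nat.one_lt_pow (by omega) (by norm_num)
    omega
  have hD3 : ¬ 3 ∣ Nat.card D := hD ▸ fun e => by
    have := Nat.prime_three.dvd_of_dvd_pow e; norm_num at this
  have hx : H59.SelfThree.Self3 (⟨y, hyM⟩ : M) := hsf.self3 hD1 hD3 (le_of_eq hM) hyM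
  have hDM : D ≤ M := hM ▸ Subgroup.le_normalizer
  haveI hDn : (D.subgroupOf M).Normal := by
    subst hM; exact Subgroup.normal_in_normalizer
  have hDc : Nat.card (D.subgroupOf M) = 5 ^ (b - 1) := by
    rw [Nat.card_congr (Subgroup.subgroupOfEquivOfLe hDM).toEquiv, hD]
  have hb1 : 1 < 5 ^ (b - 1) := Nat.one_lt_pow (by omega) (by norm_num)
  rcases H59.SelfThree.outcome hx with ⟨K, hK, hK3, hKi⟩ | ⟨π, hπ, hπ3⟩ | ⟨hs, -⟩
  · haveI := hK
    haveI : Group.IsNilpotent K := H59.SelfThree.IsInv.nilpotent hx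
      (L := K) ⟨fun g hg => hK.conj_mem g hg _, hK3⟩
    have hle : ∀ Q : Sylow 5 M, (Q : Subgroup M) ≤ K := by
      intro Q g hg
      obtain ⟨n, hn⟩ := Q.isPGroup' ⟨g, hg⟩
      have hn' : g ^ 5 ^ n = 1 := by simpa using congrArg Subtype.val hn
      have h1 : (g : M ⧸ K) ^ 5 ^ n = 1 := by rw [← QuotientGroup.mk_pow, hn']; rfl
      have h2 : (g : M ⧸ K) ^ K.index = 1 := by
        rw [← QuotientGroup.mk_pow, QuotientGroup.eq_one_iff]; exact Subgroup.pow_index_mem K g
      have hcop : Nat.Coprime (5 ^ n) K.index := Nat.Coprime.pow_left n (by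
        rcases hKi with e | e <;> rw [e] <;> norm_num)
      have h3 := pow_gcd_eq_one.2 ⟨h1, h2⟩
      rw [hcop.gcd_eq_one, pow_one] at h3
      exact (QuotientGroup.eq_one_iff g).1 h3
    haveI : Nontrivial (Sylow 5 M) := Finite.one_lt_card_iff_nontrivial.1 (hdM ▸ hd1)
    obtain ⟨Q, Q', hne⟩ := exists_pair_ne (Sylow 5 M)
    haveI := (Sylow.subtype Q (hle Q)).normal_of_all_max_subgroups_normal (fun H _ => by
      exact Subgroup.NormalizerCondition.normal_of_coatom H Group.normalizerCondition_of_isNilpotent ‹_›)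
    haveI : Unique (Sylow 5 K) := Sylow.unique_of_normal (Sylow.subtype Q (hle Q)) inferInstance
    exact hne (Sylow.subtype_injective (hP := hle Q) (hQ := hle Q') (Subsingleton.elim _ _))
  · obtain ⟨h2, -⟩ := H59.SelfThree.kernel_elementary hx hπ hπ3
    have hn : ((D.subgroupOf M).map π).Normal := hDn.map π hπ
    haveI : IsSimpleGroup (alternatingGroup (Fin 5)) := alternatingGroup.isSimpleGroup (by simp)
    rcases hn.eq_bot_or_eq_top with e | e
    · haveI : Nontrivial (D.subgroupOf M) := Finite.one_lt_card_iff_nontrivial.1 (hDc ▸ hb1)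
      obtain ⟨⟨g, hg⟩, hg1⟩ := exists_ne (1 : D.subgroupOf M)
      have hker : g ∈ π.ker := (Subgroup.map_eq_bot_iff _).1 e hg
      have h1 : orderOf g ∣ 2 := orderOf_dvd_of_pow_eq_one (by rw [pow_two]; exact h2 g hker)
      have h5 : orderOf g ∣ 5 ^ (b - 1) := hDc ▸ Subgroup.orderOf_dvd_natCard _ hg
      have : orderOf g = 1 := Nat.eq_one_of_dvd_coprimes (Nat.Coprime.pow_right _ (by norm_num)) h1 h5
      exact hg1 (Subtype.ext (orderOf_eq_one_iff.1 this))
    · have h1 := Subgroup.card_map_dvd (D.subgroupOf M) π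
      rw [e, Subgroup.card_top, H59.SelfThree.card_A5, hDc] at h1
      have := (Nat.prime_dvd_prime_iff_eq Nat.prime_two (by norm_num : Nat.Prime 5)).1
        (Nat.prime_two.dvd_of_dvd_pow ((by norm_num : 2 ∣ 60).trans h1))
      norm_num at this
  · rcases hDn.eq_bot_or_eq_top with e | e
    · rw [e, Subgroup.card_bot] at hDc; omega
    · rw [e, Subgroup.card_top, hk] at hDc
      have h1 : 5 ^ (b - 1) < 5 ^ b := Nat.pow_lt_pow_right (by norm_num) (by omega)
      have h2 : 0 < k := Nat.pos_of_ne_zero fun e => by rw [e] at hkpos; simp at hkpos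
      have := Nat.le_mul_of_pos_right (5 ^ b) h2
      omega

end H59.Nine.One
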