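import Cfsg.Agent.H59.Nine.One.Setup
import Cfsg.Agent.H62.DihedralChar
import Cfsg.Agent.H62.InvertCount

/-!
A central involution of a Sylow `2`-subgroup: the class equation at the class of order three, and the
case `q = 5`, `b = 3`.
-/

set_option autoImplicit false
set_option linter.unusedSectionVars false

open Cfsg
open scoped Classical ComplexConjugate

namespace H59.Nine.One

open Finset

universe u

variable {G : Type u} [Group G] [Fintype G] {S : Subgroup G} {x u : G}

/-- values at an involution are integers -/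
theorem int_at_involution (χ : IrrCharacter G) (hu : orderOf u = 2) :
    ∃ r : ℤ, (χ : G → ℂ) u = (r : ℂ) := by
  obtain ⟨n, ρ, -, h⟩ := χ.2
  obtain ⟨μ, h1, h2, -⟩ := H12.exists_char_eigenvalues ρ u
  have hμ : ∀ i, ∃ r : ℤ, μ i = (r : ℂ) := fun i => by
    have hi := h1 i
    rw [hu, pow_two, mul_self_eq_one_iff] at hi
    rcases hi with e | e
    · exact ⟨1, by rw [e]; norm_num⟩
    · exact ⟨-1, by rw [e]; norm_num⟩
  choose r hr using hμ
  refine ⟨∑ i, r i, ?_⟩
  rw [← h]
  have := h2 1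
  simp only [pow_one] at this
  rw [this, Int.cast_sum]
  exact sum_congr rfl fun i _ => hr i

/-- the central character at an element with a rational value -/
theorem dvd_index_mul (χ : IrrCharacter G) {r : ℤ} (hr : (χ : G → ℂ) u = (r : ℂ)) :
    (charDegree (χ : G → ℂ) : ℤ) ∣ ((Subgroup.centralizer ({u} : Set G)).index : ℤ) * r := by
  have hpos : charDegree (χ : G → ℂ) ≠ 0 := (H24.irr_pos χ).ne'
  set D := charDegree (χ : G → ℂ) with hD
  set c := (Subgroup.centralizer ({u} : Set G)).index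
  obtain ⟨n, ρ, hρ, h⟩ := χ.2
  haveI := hρ
  have hi := H12.isIntegral_classSize_mul_char_div ρ u
  have hdeg : (Module.finrank ℂ (Fin n → ℂ)) = D := by
    rw [← H12.degree_character ρ, h]
    rfl
  rw [hdeg, congrFun h u, hr] at hi
  have hq : ((c : ℂ) * (r : ℂ) / (D : ℂ)) = ((((c : ℤ) * r : ℤ) : ℚ) / (D : ℚ) : ℚ) := by
    push_cast; rfl
  rw [hq] at hi
  obtain ⟨z, hz⟩ := H12.exists_int_of_isIntegral_rat hi
  refine ⟨z, ?_⟩
  have hz' : (z : ℚ) * (D : ℚ) = (((c : ℤ) * r : ℤ) : ℚ) := by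
    rw [hz, div_mul_cancel₀]
    exact_mod_cast hpos
  have : z * (D : ℤ) = (c : ℤ) * r := by exact_mod_cast hz'
  rw [← this]; ring

/-- the pairs of conjugates of an involution with product `x` -/
theorem classMult_cases (h : OneClass S) (hx : x ∈ S) (hx1 : x ≠ 1) (hu : orderOf u = 2) :
    H24.classMult u u x = 0 ∨ H24.classMult u u x = 9 := by
  set P := {ab : G × G // IsConj u ab.1 ∧ IsConj u ab.2 ∧ ab.1 * ab.2 = x}
  rcases Nat.eq_zero_or_pos (H24.classMult u u x) with h0 | h0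
  · exact Or.inl h0
  right
  change Nat.card P = 9
  obtain ⟨⟨⟨a, b⟩, hab⟩⟩ := (Nat.card_ne_zero.1 h0.ne').1
  simp only at hab
  have hsq : ∀ w : G, IsConj u w → w * w = 1 ∧ w ≠ 1 := fun w hw => by
    obtain ⟨c, rfl⟩ := isConj_iff.1 hw
    have huu : u * u = 1 := by rw [← pow_two, ← hu, pow_orderOf_eq_one]
    refine ⟨by rw [show c * u * c⁻¹ * (c * u * c⁻¹) = c * (u * u) * c⁻¹ by group, huu]; group, fun e => ?_⟩
    rw [conj_eq_one_iff.1 e, orderOf_one] at hu
    norm_num at hu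
  have hinvert : ∀ w w' : G, IsConj u w → IsConj u w' → w * w' = x → w * x * w = x⁻¹ := by
    intro w w' hw hw' e
    have hwi : w⁻¹ = w := inv_eq_of_mul_eq_one_right (hsq w hw).1
    have hw'i : w'⁻¹ = w' := inv_eq_of_mul_eq_one_right (hsq w' hw').1
    rw [← e, mul_inv_rev, hwi, hw'i]
    calc w * (w * w') * w = (w * w) * w' * w := by group
      _ = w' * w := by rw [(hsq w hw).1, one_mul]
  -- upper bound
  have hle : Nat.card P ≤ 9 := by
    have hmem : ∀ p : P, a * p.1.1 ∈ S := by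
      intro p
      refine h.cc.mem_of_commute hx hx1 ?_
      have e1 := hinvert a b hab.1 hab.2.1 hab.2.2
      have e2 := hinvert _ _ p.2.1 p.2.2.1 p.2.2.2
      have ha2 := (hsq a hab.1).1
      have hp2 := (hsq _ p.2.1).1
      have e2' : p.1.1 * x = x⁻¹ * p.1.1 := by
        rw [← e2]; calc p.1.1 * x = p.1.1 * x * (p.1.1 * p.1.1) := by rw [hp2, mul_one]
          _ = p.1.1 * x * p.1.1 * p.1.1 := by group
      have e1' : a * x⁻¹ = x * a := by
        rw [← e1]; calc a * (a * x * a) = (a * a) * x * a := by group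
          _ = x * a := by rw [ha2, one_mul]
      calc a * p.1.1 * x = a * (x⁻¹ * p.1.1) := by rw [mul_assoc, e2']
        _ = (a * x⁻¹) * p.1.1 := by group
        _ = x * (a * p.1.1) := by rw [e1', mul_assoc]
    rw [← h.cc.card]
    refine Nat.card_le_card_of_injective (fun p => (⟨a * p.1.1, hmem p⟩ : S)) fun p p' e => ?_
    have e' : p.1.1 = p'.1.1 := mul_left_cancel (congrArg Subtype.val e)
    refine Subtype.ext (Prod.ext e' ?_)
    have h1 := p.2.2.2
    have h2 := p'.2.2.2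
    rw [e'] at h1
    exact mul_left_cancel (h1.trans h2.symm)
  -- lower bound
  have hge : 9 ≤ Nat.card P := by
    rw [← h.cc.card]
    refine Nat.card_le_card_of_injective (fun k : S => (⟨((k : G) * a * (k : G)⁻¹, (k : G) * b * (k : G)⁻¹),
      hab.1.trans (isConj_iff.2 ⟨k, rfl⟩), hab.2.1.trans (isConj_iff.2 ⟨k, rfl⟩), ?_⟩ : P)) fun k k' e => ?_
    · have hkx := h.cc.comm k k.2 x hx
      calc (k : G) * a * (k : G)⁻¹ * ((k : G) * b * (k : G)⁻¹) = (k : G) * (a * b) * (k : G)⁻¹ := by group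
        _ = x := by rw [hab.2.2, hkx]; group
    · have e1 : (k : G) * a * (k : G)⁻¹ = (k' : G) * a * (k' : G)⁻¹ :=
        congrArg (fun p : P => p.1.1) e
      by_contra hne
      set m := (k' : G)⁻¹ * k with hm
      have hmS : m ∈ S := S.mul_mem (S.inv_mem k'.2) k.2
      have hm1 : m ≠ 1 := fun e' => hne (Subtype.ext (inv_mul_eq_one.1 e').symm)
      have hma : a * m = m * a := by
        calc a * m = (k' : G)⁻¹ * ((k' : G) * a * (k' : G)⁻¹) * k := by rw [hm]; group
          _ = m * a := by rw [← e1, hm]; group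
      have haS := h.cc.mem_of_commute hmS hm1 hma
      have h3 : orderOf a ∣ 3 := orderOf_dvd_of_pow_eq_one (h.cc.exp a haS)
      have h2 : orderOf a ∣ 2 := orderOf_dvd_of_pow_eq_one (by rw [pow_two]; exact (hsq a hab.1).1)
      exact (hsq a hab.1).2 (orderOf_eq_one_iff.1 (Nat.dvd_one.1 (Nat.dvd_gcd h3 h2)))
  omega

variable [IsSimpleGroup G] {q a b : ℕ}

/-- a central involution of a Sylow `2`-subgroup -/
theorem exists_central (h : Shape G q a b) (hS : OneClass S) {P : Sylow 3 G} (hP : (P : Subgroup G) = S)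
    (ha : 1 ≤ a) : ∃ (u : G) (γ : ℕ), orderOf u = 2 ∧ γ ≤ b ∧
      (Subgroup.centralizer ({u} : Set G)).index = 9 * q ^ γ := by
  haveI := Fact.mk Nat.prime_three
  have h2G : 2 ∣ Nat.card G := by
    rw [h.card]; exact ((dvd_pow_self 2 (by omega)).mul_left 9).mul_right _
  obtain ⟨u, T, hu, hT⟩ := H62.exists_involution_sylow_le h2G
  have h3C : ¬ 3 ∣ Nat.card (Subgroup.centralizer ({u} : Set G)) := by
    intro h3
    obtain ⟨⟨y, hy⟩, hy3⟩ := exists_prime_orderOf_dvd_card' (G := Subgroup.centralizer ({u} : Set G)) 3 h3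
    rw [Subgroup.orderOf_mk] at hy3
    obtain ⟨P', hP'⟩ := (IsPGroup.of_card (n := 1) (by rw [Nat.card_zpowers, hy3, pow_one]) :
      IsPGroup 3 (Subgroup.zpowers y)).exists_le_sylow
    obtain ⟨c, hc⟩ := MulAction.exists_smul_eq G P' P
    have hcy : c * y * c⁻¹ ∈ S := by
      rw [← hP, ← hc, Sylow.coe_subgroup_smul]
      exact ⟨y, hP' (Subgroup.mem_zpowers y), rfl⟩
    have hcy1 : c * y * c⁻¹ ≠ 1 := fun e => by
      rw [conj_eq_one_iff.1 e, orderOf_one] at hy3; norm_num at hy3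
    have hcom : c * u * c⁻¹ * (c * y * c⁻¹) = c * y * c⁻¹ * (c * u * c⁻¹) := by
      rw [Subgroup.mem_centralizer_singleton_iff] at hy
      calc c * u * c⁻¹ * (c * y * c⁻¹) = c * (u * y) * c⁻¹ := by group
        _ = c * (y * u) * c⁻¹ := by rw [hy]
        _ = c * y * c⁻¹ * (c * u * c⁻¹) := by group
    have huS := hS.cc.mem_of_commute hcy hcy1 hcom
    have h3o : orderOf (c * u * c⁻¹) ∣ 3 := orderOf_dvd_of_pow_eq_one (hS.cc.exp _ huS)
    have h2o : orderOf (c * u * c⁻¹) = 2 := by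
      rw [← hu]; exact orderOf_injective (MulAut.conj c).toMonoidHom (MulAut.conj c).injective u
    rw [h2o] at h3o
    norm_num at h3o
  set C := Subgroup.centralizer ({u} : Set G)
  have hTc := Subgroup.card_dvd_of_le hT
  rw [h.sylow_two T] at hTc
  obtain ⟨w, hw⟩ := hTc
  have hmul := C.card_mul_index
  rw [h.card] at hmul
  have hA : 0 < 2 ^ a := by positivity
  have hidx : C.index * w = 9 * q ^ b := by
    apply Nat.eq_of_mul_eq_mul_left hA
    calc 2 ^ a * (C.index * w) = Nat.card C * C.index := by rw [hw]; ring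
      _ = _ := by rw [hmul]; ring
  have hw3 : ¬ 3 ∣ w := fun e => h3C (hw ▸ e.mul_left _)
  have hwq : w ∣ q ^ b :=
    ((Nat.prime_three.coprime_iff_not_dvd.2 hw3).symm.pow_right 2).dvd_of_dvd_mul_left
      (Dvd.intro_left _ hidx)
  obtain ⟨j, hj, rfl⟩ := (Nat.dvd_prime_pow h.prime).1 hwq
  refine ⟨u, b - j, hu, Nat.sub_le _ _, ?_⟩
  apply Nat.eq_of_mul_eq_mul_right (pow_pos h.prime.pos j)
  rw [hidx, mul_assoc, ← pow_add, Nat.sub_add_cancel hj]

variable {v : IrrCharacter G → ℤ} {s : Finset (IrrCharacter G)}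

/-- no group with `q = 5`, `b = 3` -/
theorem no_five_three (h : Shape G 5 a 3) (hS : OneClass S) {P : Sylow 3 G} (hP : (P : Subgroup G) = S)
    (ha : 6 ≤ a) (hx : x ∈ S) (hx1 : x ≠ 1) (hD : Data S x v s)
    (hw : weight s v (fun χ : IrrCharacter G => charDegree (χ : G → ℂ)) ≤ -(5577 : ℝ) / 10000) : False := by
  obtain ⟨hdeg, ⟨χa, ⟨hχa, hda⟩, hua⟩, ⟨χb, ⟨hχb, hdb⟩, hub⟩⟩ := (hD.terms h (by norm_num)).five_degrees hw
  simp only at hdeg hda hdb hua hub
  obtain ⟨u, γ, hu, hγ, hidx⟩ := exists_central h hS hP (by omega)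
  have hu1 : u ≠ 1 := fun e => by rw [e, orderOf_one] at hu; norm_num at hu
  choose r hr using fun χ : IrrCharacter G => int_at_involution (u := u) χ hu
  set one := H12.oneIrr G
  have hr1 : r one = 1 := by
    have := hr one
    rw [H12.oneIrr_apply] at this
    exact_mod_cast this.symm
  have hva : v χa = 1 := by
    rcases hdeg χa hχa with e | e | e | e | e
    · omega
    · omega
    · omega
    · exact e.2
    · omega
  have hvb : v χb = -1 := by
    rcases hdeg χb hχb with e | e | e | e | e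
    · omega
    · omega
    · omega
    · omega
    · exact e.2
  have hab : χa ≠ χb := fun e => by rw [e] at hda; omega
  have hvanish : ∀ χ ∈ s, χ ≠ χa → χ ≠ χb → r χ = 0 := by
    intro χ hχ hna hnb
    have h2pow : ∃ k, charDegree (χ : G → ℂ) = 2 ^ k := by
      rcases hdeg χ hχ with e | e | e | e | e
      · exact ⟨3, e⟩
      · exact ⟨4, e⟩
      · exact ⟨6, e⟩
      · exact absurd (hua χ ⟨hχ, e.1⟩) hna
      · exact absurd (hub χ ⟨hχ, e.1⟩) hnb
    obtain ⟨k, hk⟩ := h2pow
    have hz := H59.Nine.vanish_of_coprime h.comm χ ((hD.mem χ).1 hχ).1 hu1 (by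
      rw [hk, hidx]
      exact (Nat.prime_two.coprime_iff_not_dvd.2 fun e => by
        rcases Nat.prime_two.dvd_mul.1 e with e' | e'
        · norm_num at e'
        · exact absurd (Nat.prime_two.dvd_of_dvd_pow e') (by norm_num)).pow_left k)
    rw [hr] at hz
    exact_mod_cast hz
  have hnotin : ∀ χ, χ ∉ s → χ ≠ one → v χ = 0 := fun χ hn h1 => by
    by_contra hc
    exact hn ((hD.mem χ).2 ⟨h1, hc⟩)
  have hsum : ∀ F : IrrCharacter G → ℂ, (∀ χ, v χ = 0 → F χ = 0) → (∀ χ, χ ∈ s → r χ = 0 → F χ = 0) →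
      ∑ χ, F χ = F one + F χa + F χb := by
    intro F h0 h0'
    have hna : one ≠ χa := fun e => ((hD.mem χa).1 hχa).1 e.symm
    have hnb : one ≠ χb := fun e => ((hD.mem χb).1 hχb).1 e.symm
    rw [← sum_subset (subset_univ ({one, χa, χb} : Finset (IrrCharacter G))) fun χ _ hn => ?_,
      sum_insert (by simp [hna, hnb]), sum_pair hab, add_assoc]
    simp only [mem_insert, mem_singleton, not_or] at hn
    by_cases hs' : χ ∈ s
    · exact h0' χ hs' (hvanish χ hs' hn.2.1 hn.2.2)
    · exact h0 χ (hnotin χ hs' hn.1)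
  have hlin : 1 + r χa - r χb = 0 := by
    have hnc : ¬ IsConj x u := fun e => by
      obtain ⟨c, hc⟩ := isConj_iff.1 e
      have : orderOf u = orderOf x := by
        rw [← hc]; exact orderOf_injective (MulAut.conj c).toMonoidHom (MulAut.conj c).injective x
      rw [hu, CC9.orderOf_eq hS.cc hx hx1] at this
      norm_num at this
    have h0 := hD.col u hnc
    rw [hsum _ (fun χ e => by simp [e]) (fun χ _ e => by rw [hr, e]; simp)] at h0
    rw [hr, hr, hr, hr1, hD.one, hva, hvb] at h0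
    push_cast at h0
    have : ((1 + r χa - r χb : ℤ) : ℂ) = 0 := by
      push_cast; linear_combination h0
    exact_mod_cast this
  have hdvda := dvd_index_mul (u := u) χa (hr χa)
  have hdvdb := dvd_index_mul (u := u) χb (hr χb)
  rw [hda, hidx] at hdvda
  rw [hdb, hidx] at hdvdb
  obtain ⟨rr, hrr⟩ : ∃ rr, r χa = rr := ⟨_, rfl⟩
  rw [hrr] at hlin hdvda
  have hrb : r χb = rr + 1 := by omega
  rw [hrb] at hdvdb
  push_cast at hdvda hdvdb
  -- the class equation
  have hone1 : charDegree (one : G → ℂ) = 1 := by simp [one, charDegree, H12.oneIrr_apply]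
  have heq := H24.classMult_eq u u x
  rw [hsum _ (fun χ e => by rw [hD.val, e]; simp) (fun χ _ e => by rw [hr, e]; simp)] at heq
  simp only [hr, hD.val, H24.irr_one, hr1, hD.one, hva, hvb, hda, hdb, hone1, hidx, map_intCast, h.card] at heq
  rw [hrb, hrr, show v one = 1 from hD.one] at heq
  push_cast at heq
  set cm := H24.classMult u u x with hcm
  have heqZ : (cm : ℤ) * (62500 * 2 ^ a) = 9 * 25 ^ γ * (rr ^ 2 - 8 * rr + 496) := by
    have : (((cm : ℤ) * (62500 * 2 ^ a) : ℤ) : ℂ) = ((9 * 25 ^ γ * (rr ^ 2 - 8 * rr + 496) : ℤ) : ℂ) := by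
      have e25 : (25 : ℂ) ^ γ = (5 : ℂ) ^ γ * (5 : ℂ) ^ γ := by rw [← mul_pow]; norm_num
      push_cast
      rw [e25]
      linear_combination (500 / 9 : ℂ) * heq
    exact_mod_cast this
  rcases classMult_cases hS hx hx1 hu with e | e <;> rw [← hcm] at e <;> rw [e] at heqZ
  · have h1 : (0 : ℤ) < 9 * 25 ^ γ := by positivity
    have h2 : rr ^ 2 - 8 * rr + 496 = 0 := by
      simp only [Nat.cast_zero, zero_mul] at heqZ
      exact (mul_eq_zero.1 heqZ.symm).resolve_left h1.ne'
    nlinarith [sq_nonneg (rr - 4)]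
  push_cast at heqZ
  obtain ⟨m, hm⟩ : ∃ m, a = 6 + m := ⟨a - 6, by omega⟩
  rw [hm, pow_add] at heqZ
  generalize (2 : ℤ) ^ m = M at heqZ
  interval_cases γ <;> norm_num at hdvda hdvdb heqZ
  · omega
  · omega
  · obtain ⟨k, hk⟩ : (5 : ℤ) ∣ rr + 1 := by omega
    obtain ⟨t, rfl⟩ : ∃ t, rr = 5 * t + 4 := ⟨k - 1, by omega⟩
    ring_nf at heqZ
    omega
  · obtain ⟨k, hk⟩ : (4 : ℤ) ∣ rr := by omega
    obtain ⟨t, rfl⟩ : ∃ t, rr = 4 * t + 4 := ⟨k - 1, by omega⟩
    have h16 : t ^ 2 + 30 = 16 * M := by nlinarith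
    have hmod : (t * t) % 16 = 2 := by
      rw [← pow_two]; omega
    have h16' : ∀ z : ZMod 16, z * z ≠ 2 := by decide
    apply h16' (t : ZMod 16)
    have : ((t * t : ℤ) : ZMod 16) = ((2 : ℤ) : ZMod 16) := by
      rw [ZMod.intCast_eq_intCast_iff']
      simpa using hmod
    push_cast at this
    exact this

end H59.Nine.One
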