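import Cfsg.Agent.H59.Nine.One.Seventeen
import Cfsg.Agent.H59.Nine.One.TwoCentral
import Cfsg.Agent.H59.Nine.One.Local
import Cfsg.Agent.H59.AltSixThree.Main

/-!
One class of elements of order three: no group of order `9 * 2 ^ a * q ^ b`.
-/

set_option autoImplicit false
set_option linter.unusedSectionVars false
set_option linter.style.haveILetI false

open Cfsg
open scoped Classical

namespace H59.Nine.One

open Finset

universe u

/-! ### arithmetic -/

theorem not_sq_dvd_factorial {q : ℕ} (hq : q.Prime) : ∀ n, n < 2 * q → ¬ q ^ 2 ∣ n.factorial := by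
  intro n
  induction n with
  | zero =>
    intro _ h
    have h1 := Nat.le_of_dvd (by norm_num) h
    have := hq.two_le
    rw [Nat.factorial_zero] at h1
    nlinarith
  | succ n ih =>
    intro hn h
    rw [Nat.factorial_succ] at h
    by_cases hd : q ∣ n + 1
    · obtain ⟨c, hc⟩ := hd
      have hc1 : c = 1 := by
        rcases Nat.lt_or_ge c 2 with h2 | h2
        · rcases (show c = 0 ∨ c = 1 by omega) with rfl | rfl
          · simp at hc
          · rfl
        · have := Nat.mul_le_mul_left q h2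
          omega
      subst hc1
      rw [mul_one] at hc
      rw [hc, pow_two] at h
      have h2 := Nat.dvd_of_mul_dvd_mul_left hq.pos h
      exact absurd ((hq.dvd_factorial).1 h2) (by omega)
    · exact ih (by omega) (((hq.coprime_iff_not_dvd.2 hd).pow_left 2).dvd_of_dvd_mul_left h)

theorem q_cases {q n : ℕ} (hq : q.Prime) (h5 : 5 ≤ q)
    (hn : n = 24 ∨ n = 12 ∨ n = 3 ∨ n = 96 ∨ n = 48 ∨ n = 384 ∨ n = 192 ∨ n = 1536 ∨ n = 768)
    (hmod : q ∣ n - 1) (hle : 2 * q ≤ n) :
    (n = 96 ∧ (q = 5 ∨ q = 19)) ∨ n = 1536 ∨ n = 768 := by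
  have key : ∀ r : ℕ, r.Prime → q ∣ r → q = r := fun r hr hd => (Nat.prime_dvd_prime_iff_eq hq hr).1 hd
  rcases hn with rfl | rfl | rfl | rfl | rfl | rfl | rfl | rfl | rfl
  · have := key 23 (by norm_num) hmod; omega
  · have := key 11 (by norm_num) hmod; omega
  · omega
  · rcases hq.dvd_mul.1 (show q ∣ 5 * 19 from hmod) with e | e
    · exact Or.inl ⟨rfl, Or.inl (key 5 (by norm_num) e)⟩
    · exact Or.inl ⟨rfl, Or.inr (key 19 (by norm_num) e)⟩
  · have := key 47 (by norm_num) hmod; omega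
  · have := key 383 (by norm_num) hmod; omega
  · have := key 191 (by norm_num) hmod; omega
  · exact Or.inr (Or.inl rfl)
  · exact Or.inr (Or.inr rfl)

/-- prime powers up to `370` with exponent at least two -/
theorem pow_cases {q b : ℕ} (hq : q.Prime) (h5 : 5 ≤ q) (hb : 2 ≤ b) (hbig : b = 2 → 17 ≤ q)
    (h : q ^ b ≤ 370) : (b = 2 ∧ (q = 17 ∨ q = 19)) ∨ (b = 3 ∧ (q = 5 ∨ q = 7)) := by
  have hb3 : b ≤ 3 := by
    by_contra hc
    have h1 : 5 ^ 4 ≤ q ^ b :=
      (Nat.pow_le_pow_left h5 4).trans (Nat.pow_le_pow_right (by omega) (by omega))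
    norm_num at h1
    omega
  interval_cases b
  · left
    refine ⟨rfl, ?_⟩
    have := hbig rfl
    have : q ≤ 19 := by
      by_contra hc
      have : 20 ^ 2 ≤ q ^ 2 := Nat.pow_le_pow_left (by omega) 2
      omega
    interval_cases q <;> first | omega | norm_num at hq
  · right
    refine ⟨rfl, ?_⟩
    have : q ≤ 7 := by
      by_contra hc
      have : 8 ^ 3 ≤ q ^ 3 := Nat.pow_le_pow_left (by omega) 3
      omega
    interval_cases q <;> first | omega | norm_num at hq

theorem five_pow_mod (b : ℕ) : 5 ^ b % 9 = 7 → b % 6 = 2 := by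
  intro h
  have h1 : 5 ^ b % 9 = 5 ^ (b % 6) % 9 := by
    conv_lhs => rw [← Nat.mod_add_div b 6, pow_add, pow_mul]
    rw [Nat.mul_mod, Nat.pow_mod (a := 5 ^ 6)]
    norm_num
  have : b % 6 < 6 := Nat.mod_lt _ (by norm_num)
  rw [h1] at h
  interval_cases hm : b % 6 <;> simp_all

theorem two_pow_mod_nine (a : ℕ) : 2 ^ a % 9 = 2 ^ (a % 6) % 9 :=
  H59.Nine.pow_two_mod 9 6 (by norm_num) a

theorem two_pow_mod_three (a : ℕ) : 2 ^ a % 3 = 2 ^ (a % 2) % 3 :=
  H59.Nine.pow_two_mod 3 2 (by norm_num) a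

/-! ### the facts -/

variable {G : Type u} [Group G] [Fintype G] {S : Subgroup G} {x : G}
  {v : IrrCharacter G → ℤ} {s : Finset (IrrCharacter G)}

/-- the order modulo eighty one -/
theorem Data.order_mod (hD : Data S x v s) (hlin : ∑ χ : IrrCharacter G, (charDegree (χ : G → ℂ) : ℤ) * v χ = 0)
    (hsq : ∑ χ : IrrCharacter G, v χ * v χ = 9) : Nat.card G % 81 = 72 := by
  choose k hk using hD.cong
  have hd : ∀ χ : IrrCharacter G, (charDegree (χ : G → ℂ) : ℤ) = v χ + 9 * k χ := fun χ => by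
    have := hk χ; omega
  have hkv : ∑ χ : IrrCharacter G, k χ * v χ = -1 := by
    have h1 : ∑ χ : IrrCharacter G, (charDegree (χ : G → ℂ) : ℤ) * v χ =
        ∑ χ : IrrCharacter G, v χ * v χ + 9 * ∑ χ : IrrCharacter G, k χ * v χ := by
      rw [mul_sum, ← sum_add_distrib]
      exact sum_congr rfl fun χ _ => by rw [hd χ]; ring
    rw [hlin, hsq] at h1
    omega
  have h2 : (Nat.card G : ℤ) = ∑ χ : IrrCharacter G, (charDegree (χ : G → ℂ) : ℤ) ^ 2 := by
    rw [← H12.sum_degree_sq_nat (G := G)]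
    push_cast
    exact sum_congr rfl fun χ _ => rfl
  have h3 : ∑ χ : IrrCharacter G, (charDegree (χ : G → ℂ) : ℤ) ^ 2 =
      ∑ χ : IrrCharacter G, v χ * v χ + 18 * (∑ χ : IrrCharacter G, k χ * v χ) +
        81 * ∑ χ : IrrCharacter G, k χ * k χ := by
    rw [mul_sum, mul_sum, ← sum_add_distrib, ← sum_add_distrib]
    exact sum_congr rfl fun χ _ => by rw [hd χ]; ring
  rw [h3, hsq, hkv] at h2
  omega

/-- a factor eight -/
theorem OneClass.eight_dvd (h : OneClass S) (hx : x ∈ S) (hx1 : x ≠ 1) : 8 ∣ Nat.card G := by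
  have hcls : H59.AltSixThree.cls S x = ((univ : Finset G).filter fun g => g ∈ S).erase 1 := by
    ext g
    rw [H59.AltSixThree.mem_cls, mem_erase, mem_filter]
    constructor
    · rintro ⟨hg, hc⟩
      exact ⟨fun e => hx1 (isConj_one_left.1 (e ▸ hc)), mem_univ _, hg⟩
    · rintro ⟨hg1, -, hg⟩
      exact ⟨hg, h.one x hx g hg hx1 hg1⟩
  have h8 : (H59.AltSixThree.cls S x).card = 8 := by
    rw [hcls, card_erase_of_mem (by simp [S.one_mem]), ← Fintype.card_subtype, ← Nat.card_eq_fintype_card,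
      h.cc.card]
  have := h.cc.card_cls hx hx1
  rw [h8] at this
  exact (Dvd.intro_left _ this).trans (Subgroup.card_subgroup_dvd_card _)

variable [IsSimpleGroup G] {q a b : ℕ}

/-- an odd degree -/
theorem Data.exists_power (hD : Data S x v s) (h : Shape G q a b) :
    ∃ j, 1 ≤ j ∧ j ≤ b ∧ (q ^ j % 9 = 1 ∨ q ^ j % 9 = 8) ∧ (2 ≤ b → 2 ≤ j) := by
  obtain ⟨χ, hχ, hodd⟩ : ∃ χ ∈ s, (charDegree (χ : G → ℂ) : ℤ) * v χ % 2 = 1 := by
    by_contra hc
    push Not at hc
    have h2 : (2 : ℤ) ∣ ∑ χ ∈ s, (charDegree (χ : G → ℂ) : ℤ) * v χ :=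
      dvd_sum fun χ hχ => by have := hc χ hχ; omega
    rw [hD.lin] at h2
    norm_num at h2
  obtain ⟨-, i, j, -, hj, he⟩ := h.degree_shape χ (hD.not_three hχ)
  have hv : v χ = 1 ∨ v χ = -1 := by
    rcases hD.small χ hχ with e | e | e | e
    · exact Or.inl e
    · exact Or.inr e
    · rw [e] at hodd; omega
    · rw [e] at hodd; omega
  have hdodd : charDegree (χ : G → ℂ) % 2 = 1 := by
    rcases hv with e | e <;> rw [e] at hodd <;> omega
  have hi : i = 0 := by
    by_contra hi
    have h2 : 2 ∣ charDegree (χ : G → ℂ) := he ▸ (dvd_pow_self 2 hi).mul_right _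
    omega
  subst hi
  rw [pow_zero, one_mul] at he
  have hne : charDegree (χ : G → ℂ) ≠ 1 := degree_ne_one h.comm χ ((hD.mem χ).1 hχ).1
  refine ⟨j, ?_, hj, ?_, fun hb => ?_⟩
  · rcases j with _ | j
    · exact absurd (he.trans (pow_zero q)) hne
    · omega
  · have hc := hD.cong χ
    rcases hv with e | e <;> rw [e, he] at hc <;> omega
  · rcases j with _ | _ | j
    · exact absurd (he.trans (pow_zero q)) hne
    · exact absurd (he.trans (pow_one q)) ((hD.terms h hb).neq χ hχ)
    · omega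

/-- the case of one factor `q` -/
theorem no_one (h : Shape G q a 1) (hS : OneClass S) {P : Sylow 3 G} (hP : (P : Subgroup G) = S)
    (hD : Data S x v s) (hm : 2 ^ a * q % 9 = 8) : False := by
  haveI : Fact q.Prime := ⟨h.prime⟩
  obtain ⟨j, hj1, hjb, hmod, -⟩ := hD.exists_power h
  obtain rfl : j = 1 := by omega
  rw [pow_one] at hmod
  have hcard : Nat.card G = 9 * 2 ^ a * q := by rw [h.card, pow_one]
  obtain ⟨Q⟩ : Nonempty (Sylow q G) := inferInstance
  obtain ⟨hQ, hC, e, m, hed, he1, hem, hm', hN⟩ := exists_index h.comm h.ne2 h.ne3 hcard Q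
  obtain ⟨d, hd, hdq, hcong⟩ := exists_odd_degree h.comm h.ne2 h.ne3 hcard hed hQ hC hN
  have h5 := h.five_le
  have hq19 : q ≤ 19 := by omega
  rcases (show q = 17 ∨ q = 19 by
    have hp := h.prime
    interval_cases q <;> first | omega | norm_num at hp) with rfl | rfl
  · refine no_seventeen h.comm hD hcard ?_
    have h6 : a % 6 < 6 := Nat.mod_lt _ (by norm_num)
    rw [Nat.mul_mod, two_pow_mod_nine] at hm
    interval_cases hr : a % 6 <;> simp_all
  · obtain rfl : d = 9 := by omega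
    have he9 : e = 9 := by
      have := Nat.le_of_dvd (by norm_num) hed
      unfold DegCong Int.ModEq at hcong
      interval_cases e <;> simp_all
    subst he9
    refine CC9.not_nine_dvd hS.cc hP (D := (Q : Subgroup G)) (fun e => ?_) (by rw [hQ]; norm_num)
      (by rw [hN]; norm_num)
    rw [e, Subgroup.card_bot] at hQ
    norm_num at hQ

/-- the number of Sylow `q`-subgroups -/
theorem Shape.sylow_number (h : Shape G q a b) (hb : 2 ≤ b) [Fact q.Prime] (P : Sylow q G) :
    Nat.card (Sylow q G) * Nat.card (Subgroup.normalizer ((P : Subgroup G) : Set G)) = 9 * 2 ^ a * q ^ b ∧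
      q ∣ Nat.card (Sylow q G) - 1 ∧ 2 * q ≤ Nat.card (Sylow q G) := by
  refine ⟨?_, ?_, ?_⟩
  · rw [← h.card, P.card_eq_index_normalizer, mul_comm]
    exact Subgroup.card_mul_index _
  · exact (Nat.modEq_iff_dvd' Nat.card_pos).1 (card_sylow_modEq_one q G).symm
  · by_contra hc
    have hq : q ∣ Nat.card G := by rw [h.card]; exact (dvd_pow_self q (by omega)).mul_left _
    have h1 := H62.two_mul_card_dvd_factorial_card_sylow h.comm hq
    have h2 : q ^ b ∣ Nat.card G := h.card ▸ dvd_mul_left _ _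
    exact not_sq_dvd_factorial h.prime _ (by omega)
      ((pow_dvd_pow q hb).trans ((h2.trans (dvd_mul_left _ 2)).trans h1))

/-- at least two factors `q` -/
theorem no_many (h : Shape G q a b) (hS : OneClass S) {P : Sylow 3 G} (hP : (P : Subgroup G) = S)
    (hx : x ∈ S) (hx1 : x ≠ 1) (hD : Data S x v s) (hb : 2 ≤ b) (ha : 3 ≤ a)
    (hm : 2 ^ a * q ^ b % 9 = 8) : False := by
  haveI : Fact q.Prime := ⟨h.prime⟩
  have h5 := h.five_le
  have hp := h.prime
  -- exponent two forces a big prime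
  have hbig : b = 2 → 17 ≤ q := by
    rintro rfl
    obtain ⟨j, -, hj, hmod, hj2⟩ := hD.exists_power h
    obtain rfl : j = 2 := by have := hj2 le_rfl; omega
    by_contra hc
    interval_cases q <;> first | (norm_num at hp; done) | (norm_num at hmod)
  have hB125 : 125 ≤ q ^ b := by
    rcases eq_or_lt_of_le hb with e | e
    · rw [← e]; exact (Nat.pow_le_pow_left (hbig e.symm) 2).trans' (by norm_num)
    · exact ((Nat.pow_le_pow_left h5 3).trans' (by norm_num)).trans (Nat.pow_le_pow_right (by omega) e)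
  -- the count
  have hsf := CC9.sf hS.cc hx hx1
  obtain ⟨t, ht⟩ := hS.flip hx hx1
  have hcent : ∀ i : G, i * x = x * i → i ∈ S := fun i hi => hS.cc.mem_of_commute hx hx1 hi
  have hc := hD.count hS hx hx1 h
  set w := weight s v fun χ : IrrCharacter G => charDegree (χ : G → ℂ)
  have hwN : ∀ N : ℕ, NegBound q b N → 8 ≤ N → 1 / 4 - 2 / (N : ℝ) ≤ 1 + w := fun N hN hN8 => by
    have := (hD.terms h hb).weight_lower hN hN8
    simp only [w]
    linarith
  have hw : (9 : ℝ) / 52 ≤ 1 + w := by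
    have := hwN 26 (negBound_twentysix hp) (by norm_num)
    norm_num at this
    linarith
  have hBR : (125 : ℝ) ≤ (q : ℝ) ^ b := by exact_mod_cast hB125
  have hApos : (0 : ℝ) < (2 : ℝ) ^ a := by positivity
  have hlow : (2 : ℝ) ^ a * (q : ℝ) ^ b * (9 / 52) ≤ (2 : ℝ) ^ a * (q : ℝ) ^ b * (1 + w) :=
    mul_le_mul_of_nonneg_left hw (by positivity)
  have hm3 : 2 ^ a % 3 * (q ^ b % 3) % 3 = 2 := by
    rw [← Nat.mul_mod]; omega
  have hA3 : 2 ^ a % 3 = 1 ∨ 2 ^ a % 3 = 2 := by
    rw [two_pow_mod_three]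
    rcases Nat.mod_two_eq_zero_or_one a with e | e <;> rw [e] <;> norm_num
  have hm9 : 2 ^ a % 9 * (q ^ b % 9) % 9 = 8 := by rw [← Nat.mul_mod]; exact hm
  rcases hA3 with hA3 | hA3
  · -- the Sylow `q`-subgroup is two modulo three
    have hB3 : q ^ b % 3 = 2 := by rw [hA3] at hm3; omega
    have hu : ((invUnion x).ncard : ℝ) ≤ 6 * (2 : ℝ) ^ a := by
      exact_mod_cast union_bound_even h hsf hS.cc.card hcent hx ht hB3 hA3 ha
    have ha4 : 4 ≤ a := by
      by_contra hc'
      obtain rfl : a = 3 := by omega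
      norm_num at hA3
    have hA16 : (16 : ℝ) ≤ (2 : ℝ) ^ a :=
      le_trans (by norm_num) (pow_le_pow_right₀ (by norm_num) ha4)
    have hB341 : (q : ℝ) ^ b < 342 := by
      by_contra hc'
      push Not at hc'
      nlinarith [mul_le_mul_of_nonneg_left hc' hApos.le]
    have hB341' : q ^ b < 342 := by exact_mod_cast hB341
    obtain ⟨rfl, rfl⟩ : b = 3 ∧ q = 5 := by
      rcases pow_cases hp h5 hb hbig (by omega) with ⟨e, rfl | rfl⟩ | ⟨e, rfl | rfl⟩ <;> subst e <;>
        omega
    have ha6 : a % 6 = 0 := by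
      rw [two_pow_mod_nine] at hm9
      have h6 : a % 6 < 6 := Nat.mod_lt _ (by norm_num)
      interval_cases hr : a % 6 <;> simp_all
    have ha6' : 6 ≤ a := by omega
    refine no_five_three h hS hP ha6' hx hx1 hD ?_
    have hA64 : (64 : ℝ) ≤ (2 : ℝ) ^ a :=
      le_trans (by norm_num) (pow_le_pow_right₀ (by norm_num) ha6')
    by_contra hc'
    push Not at hc'
    push_cast at hc
    norm_num at hc
    nlinarith [mul_le_mul_of_nonneg_left hc'.le hApos.le]
  · -- the Sylow `2`-subgroup is two modulo three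
    obtain ⟨u, hu, hcases⟩ := union_bound_odd h hsf hS.cc.card hcent hx ht hA3
    have hodd : a % 2 = 1 := by
      rcases Nat.mod_two_eq_zero_or_one a with e | e
      · rw [two_pow_mod_three, e] at hA3; norm_num at hA3
      · exact e
    have huR : 2 * ((invUnion x).ncard : ℝ) ≤ 2 * (u : ℝ) + 3 * (2 : ℝ) ^ a + 72 := by exact_mod_cast hu
    have main : (2 : ℝ) ^ a * (q : ℝ) ^ b * (1 + w) ≤ 405 + 27 / 2 * (2 : ℝ) ^ a + 9 * (u : ℝ) := by linarith
    have hu12 : (u : ℝ) ≤ 12 * (q : ℝ) ^ b := by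
      have : u ≤ 12 * q ^ b := by
        rcases hcases with e | ⟨-, P', ⟨-, e⟩ | ⟨-, e⟩⟩ <;> omega
      exact_mod_cast this
    have ha9 : a ≤ 9 := by
      by_contra hc'
      have h11 : 11 ≤ a := by omega
      have hA : (2048 : ℝ) ≤ (2 : ℝ) ^ a :=
        le_trans (by norm_num) (pow_le_pow_right₀ (by norm_num) h11)
      nlinarith [mul_nonneg (sub_nonneg.2 hBR) (show (0 : ℝ) ≤ (2 : ℝ) ^ a * (9 / 52) - 108 by linarith)]
    rcases Nat.eq_zero_or_pos u with rfl | hupos
    · simp only [Nat.cast_zero, mul_zero, add_zero] at main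
      have hmain' : (2 : ℝ) ^ a * (q : ℝ) ^ b * (9 / 52) ≤ 405 + 27 / 2 * (2 : ℝ) ^ a := hlow.trans main
      rcases (show a = 3 ∨ a = 5 ∨ a = 7 ∨ a = 9 by omega) with rfl | rfl | rfl | rfl
      · have hB : (q : ℝ) ^ b < 371 := by norm_num at hmain'; linarith
        have hB' : q ^ b < 371 := by exact_mod_cast hB
        rcases pow_cases hp h5 hb hbig (by omega) with ⟨rfl, rfl | rfl⟩ | ⟨rfl, rfl | rfl⟩
        · have := hwN 80 (negBound_eighty hp (Or.inr (Or.inr rfl))) (by norm_num)
          norm_num at this main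
          linarith
        · have := hwN 35 (negBound_thirtyfive hp (by norm_num)) (by norm_num)
          norm_num at this main
          linarith
        · norm_num at hm9
        · have := hwN 80 (negBound_eighty hp (Or.inr (Or.inl rfl))) (by norm_num)
          norm_num at this main
          linarith
      · have hB : (q : ℝ) ^ b < 152 := by norm_num at hmain'; linarith
        have hB' : q ^ b < 152 := by exact_mod_cast hB
        rcases pow_cases hp h5 hb hbig (by omega) with ⟨rfl, rfl | rfl⟩ | ⟨rfl, rfl | rfl⟩ <;>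
          omega
      · norm_num at hmain'; linarith
      · norm_num at hmain'; linarith
    · obtain ⟨hB3, P', hP'⟩ := hcases.resolve_left (by omega)
      obtain ⟨hn, hqn, hle⟩ := h.sylow_number hb P'
      set n := Nat.card (Sylow q G)
      have hBpos : 0 < q ^ b := pow_pos hp.pos b
      have hn' : (n = 3 * 2 ^ a ∧ u = 6 * q ^ b) ∨ (2 * n = 3 * 2 ^ a ∧ u = 6 * q ^ b) ∨
          (8 * n = 3 * 2 ^ a ∧ u = 12 * q ^ b) := by
        rcases hP' with ⟨e | e, e'⟩ | ⟨e, e'⟩ <;> rw [e] at hn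
        · refine Or.inl ⟨Nat.eq_of_mul_eq_mul_right hBpos ?_, e'⟩; linarith
        · refine Or.inr (Or.inl ⟨Nat.eq_of_mul_eq_mul_right hBpos ?_, e'⟩); linarith
        · refine Or.inr (Or.inr ⟨Nat.eq_of_mul_eq_mul_right hBpos ?_, e'⟩); linarith
      have hnine : n = 24 ∨ n = 12 ∨ n = 3 ∨ n = 96 ∨ n = 48 ∨ n = 384 ∨ n = 192 ∨ n = 1536 ∨ n = 768 := by
        rcases hn' with ⟨e, -⟩ | ⟨e, -⟩ | ⟨e, -⟩ <;>
          rcases (show a = 3 ∨ a = 5 ∨ a = 7 ∨ a = 9 by omega) with rfl | rfl | rfl | rfl <;>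
          norm_num at e <;> omega
      rcases q_cases hp h5 hnine hqn hle with ⟨e96, hq⟩ | e | e
      · obtain ⟨rfl, hu6⟩ : a = 5 ∧ u = 6 * q ^ b := by
          rcases hn' with ⟨e, e'⟩ | ⟨e, e'⟩ | ⟨e, e'⟩ <;>
            rcases (show a = 3 ∨ a = 5 ∨ a = 7 ∨ a = 9 by omega) with rfl | rfl | rfl | rfl <;>
            norm_num at e <;> first | exact ⟨rfl, e'⟩ | (exfalso; omega)
        rcases hq with rfl | rfl
        · norm_num at hm9
          have hb6 := five_pow_mod b (by omega)
          have hb2 : b ≠ 2 := fun e => by have := hbig e; omega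
          exact no_five_thirtytwo h hS.cc hP (by omega) e96
        · norm_num [Nat.pow_mod] at hm9
      all_goals
        have hu6 : u = 6 * q ^ b := by
          rcases hn' with ⟨-, e'⟩ | ⟨-, e'⟩ | ⟨e'', -⟩
          · exact e'
          · exact e'
          · exfalso
            rcases (show a = 3 ∨ a = 5 ∨ a = 7 ∨ a = 9 by omega) with rfl | rfl | rfl | rfl <;>
              norm_num at e'' <;> omega
        obtain rfl : a = 9 := by
          rcases hn' with ⟨e'', -⟩ | ⟨e'', -⟩ | ⟨e'', -⟩ <;>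
            rcases (show a = 3 ∨ a = 5 ∨ a = 7 ∨ a = 9 by omega) with rfl | rfl | rfl | rfl <;>
            norm_num at e'' <;> omega
        have huR' : (u : ℝ) = 6 * (q : ℝ) ^ b := by exact_mod_cast hu6
        have hB : (q : ℝ) ^ b < 212 := by
          rw [huR'] at main
          have := hlow.trans main
          norm_num at this
          linarith
        have hB' : q ^ b < 212 := by exact_mod_cast hB
        rcases pow_cases hp h5 hb hbig (by omega) with ⟨rfl, rfl | rfl⟩ | ⟨rfl, rfl | rfl⟩ <;>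
          omega

/-- there is no such group with one class -/
theorem no_one_class (h : Shape G q a b) (hS : OneClass S) {P : Sylow 3 G} (hP : (P : Subgroup G) = S) :
    False := by
  have hne : S ≠ ⊥ := fun e => by
    have := hS.cc.card
    rw [e, Subgroup.card_bot] at this
    norm_num at this
  obtain ⟨x, hx, hx1⟩ := (Subgroup.bot_or_exists_ne_one S).resolve_left hne
  obtain ⟨v, s, hD⟩ := hS.exists_data hx hx1
  obtain ⟨v', hv', -, hsq, hlin, -, -⟩ := hS.values hx hx1
  have hvv : v' = v := funext fun χ => by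
    have := (hv' χ).symm.trans (hD.val χ)
    exact_mod_cast this
  subst hvv
  have hmod := hD.order_mod hlin hsq
  rw [h.card, mul_assoc] at hmod
  have hm : 2 ^ a * q ^ b % 9 = 8 := by omega
  have ha : 3 ≤ a := by
    by_contra hc
    have h8 := hS.eight_dvd hx hx1
    rw [h.card, mul_comm 9 (2 ^ a), mul_assoc] at h8
    have hodd : Nat.Coprime (2 ^ 3) (9 * q ^ b) :=
      (Nat.prime_two.coprime_iff_not_dvd.2 h.not_two_dvd).pow_left 3
    have h1 : 8 ∣ 2 ^ a := hodd.dvd_of_dvd_mul_right h8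
    have := Nat.le_of_dvd (by positivity) h1
    have : 2 ^ a ≤ 2 ^ 2 := Nat.pow_le_pow_right (by norm_num) (by omega)
    omega
  obtain ⟨j, hj1, hjb, -, -⟩ := hD.exists_power h
  rcases eq_or_lt_of_le (show 1 ≤ b by omega) with rfl | hb
  · exact no_one h hS hP hD (by rwa [pow_one] at hm)
  · exact no_many h hS hP hx hx1 hD hb ha hm

end H59.Nine.One
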