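import Cfsg.Agent.H59.Nine.One.Main
import Cfsg.Agent.H59.Nine.Main

/-!
Orders in the self-centralising case.
-/

set_option autoImplicit false
set_option linter.style.haveILetI false

open Cfsg

namespace H59.Nine.One

universe u

variable {G : Type u} [Group G] [Finite G] [IsSimpleGroup G]

/-- the three orders -/
theorem order_cases_cent (hG : ¬ IsMulCommutative G) {q a b : ℕ} (hq : q.Prime) (hq2 : q ≠ 2) (hq3 : q ≠ 3)
    (hcard : Nat.card G = 9 * 2 ^ a * q ^ b) (R : Sylow 3 G)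
    (hR : ∀ k ∈ (R : Subgroup G), k ≠ 1 → Subgroup.centralizer ({k} : Set G) = R) :
    Nat.card G = 360 ∨ Nat.card G = 504 ∨ Nat.card G = 2448 := by
  haveI : Fact (Nat.Prime 3) := ⟨Nat.prime_three⟩
  haveI := Fintype.ofFinite G
  have hn3 : ¬ 3 ∣ 2 ^ a * q ^ b := fun h => by
    rcases Nat.prime_three.dvd_mul.1 h with e | e
    · exact absurd ((Nat.prime_dvd_prime_iff_eq Nat.prime_three Nat.prime_two).1
        (Nat.prime_three.dvd_of_dvd_pow e)) (by norm_num)
    · exact hq3 ((Nat.prime_dvd_prime_iff_eq Nat.prime_three hq).1 (Nat.prime_three.dvd_of_dvd_pow e)).symm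
  have hR9 : Nat.card (R : Subgroup G) = 9 := by
    rw [H62.card_sylow_coe (p := 3) (a := 2) (m := 2 ^ a * q ^ b) (by rw [hcard]; ring) hn3 R]; norm_num
  by_cases hexp : ∀ g ∈ (R : Subgroup G), g ^ 3 = 1
  · have hcc : H59.AltSixThree.CC9 (R : Subgroup G) := ⟨hR9, hexp, H59.Nine.comm_of_card hR9, hR⟩
    by_cases hone : ∀ x ∈ (R : Subgroup G), ∀ y ∈ (R : Subgroup G), x ≠ 1 → y ≠ 1 → IsConj x y
    · exact (no_one_class ⟨hG, hq, hq2, hq3, hcard⟩ ⟨hcc, hone⟩ (P := R) rfl).elim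
    · push Not at hone
      obtain ⟨x, hx, y, hy, hx1, hy1, hxy⟩ := hone
      exact Or.inl (H59.AltSixThree.card_eq hcc R rfl
        ⟨x, y, CC9.orderOf_eq hcc hx hx1, CC9.orderOf_eq hcc hy hy1, hxy⟩)
  · push Not at hexp
    obtain ⟨g, hg, hg3⟩ := hexp
    have hd : orderOf g ∣ 3 ^ 2 := by
      rw [show 3 ^ 2 = 9 from rfl, ← hR9]
      exact Subgroup.orderOf_dvd_natCard _ hg
    obtain ⟨k, hk, he⟩ := (Nat.dvd_prime_pow Nat.prime_three).1 hd
    have ho : orderOf g = 9 := by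
      interval_cases k
      · exact absurd (orderOf_dvd_iff_pow_eq_one.1 (by rw [he]; norm_num)) hg3
      · exact absurd (orderOf_dvd_iff_pow_eq_one.1 (by rw [he]; norm_num)) hg3
      · exact he
    have hRg : Subgroup.zpowers g = (R : Subgroup G) :=
      Subgroup.eq_of_le_of_card_ge (Subgroup.zpowers_le.2 hg) (by rw [hR9, Nat.card_zpowers, ho])
    have h3 : orderOf (g ^ 3) = 3 := by
      rw [orderOf_pow' g (by norm_num), ho]; norm_num
    refine H59.Nine.order_cases hG hq hq2 hq3 hcard (R := R) (K := Subgroup.zpowers (g ^ 3))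
      ⟨hR9, Subgroup.zpowers_le.2 (pow_mem hg 3), by rw [Nat.card_zpowers, h3], fun n hn y hy => ?_⟩
    have hyR : y ∈ (R : Subgroup G) := Subgroup.zpowers_le.2 (pow_mem hg 3) hy
    have hmem : n * y * n⁻¹ ∈ (R : Subgroup G) := (Subgroup.mem_normalizer_iff.1 hn y).1 hyR
    rw [← hRg] at hmem
    obtain ⟨i, hi⟩ := Subgroup.mem_zpowers_iff.1 hmem
    have hy3 : y ^ 3 = 1 := by
      rw [← orderOf_dvd_iff_pow_eq_one, ← h3, ← Nat.card_zpowers (g ^ 3)]
      exact Subgroup.orderOf_dvd_natCard _ hy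
    have hi3 : g ^ (i * 3) = 1 := by
      rw [zpow_mul, hi, show ((3 : ℤ)) = ((3 : ℕ) : ℤ) from rfl, zpow_natCast, conj_pow, hy3]
      group
    obtain ⟨c, hc⟩ : (3 : ℤ) ∣ i := by
      have := orderOf_dvd_iff_zpow_eq_one.2 hi3
      rw [ho] at this
      push_cast at this
      omega
    refine Subgroup.mem_zpowers_iff.2 ⟨c, ?_⟩
    rw [← hi, hc, zpow_mul]
    norm_cast

end H59.Nine.One
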