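import Cfsg.Agent.H59.Nine.One.Union
import Cfsg.Agent.H59.Nine.One.Degrees
import Cfsg.Agent.H59.Nine.Degrees

/-!
The characters that do not vanish on the class, as data for the arithmetic.
-/

set_option autoImplicit false
set_option linter.unusedSectionVars false

open Cfsg
open scoped Classical

namespace H59.Nine.One

open Finset

universe u

variable {G : Type u} [Group G] [Fintype G] [IsSimpleGroup G] {S : Subgroup G} {x : G} {q a b : ℕ}

theorem Shape.degree_shape (h : Shape G q a b) (χ : IrrCharacter G) (h3 : ¬ 3 ∣ charDegree (χ : G → ℂ)) :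
    IsDeg q b (charDegree (χ : G → ℂ)) ∧ ∃ i j, i ≤ a ∧ j ≤ b ∧ charDegree (χ : G → ℂ) = 2 ^ i * q ^ j := by
  have hd : charDegree (χ : G → ℂ) ∣ 9 * (2 ^ a * q ^ b) := by
    rw [← mul_assoc, ← h.card]; exact H24.charDegree_dvd_card χ
  have h9 : Nat.Coprime (charDegree (χ : G → ℂ)) 9 :=
    (Nat.prime_three.coprime_iff_not_dvd.2 h3).symm.pow_right 2
  obtain ⟨y, z, hy, hz, he⟩ := exists_dvd_and_dvd_of_dvd_mul (h9.dvd_of_dvd_mul_left hd)
  obtain ⟨i, hi, rfl⟩ := (Nat.dvd_prime_pow Nat.prime_two).1 hy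
  obtain ⟨j, hj, rfl⟩ := (Nat.dvd_prime_pow h.prime).1 hz
  exact ⟨⟨i, j, hj, he⟩, i, j, hi, hj, he⟩

/-- the values and the set of characters -/
structure Data (S : Subgroup G) (x : G) (v : IrrCharacter G → ℤ) (s : Finset (IrrCharacter G)) : Prop where
  val : ∀ χ : IrrCharacter G, (χ : G → ℂ) x = (v χ : ℂ)
  one : v (H12.oneIrr G) = 1
  mem : ∀ χ, χ ∈ s ↔ χ ≠ H12.oneIrr G ∧ v χ ≠ 0
  sq : ∑ χ ∈ s, v χ * v χ = 8
  lin : ∑ χ ∈ s, (charDegree (χ : G → ℂ) : ℤ) * v χ = -1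
  col : ∀ g : G, ¬ IsConj x g → ∑ χ : IrrCharacter G, (χ : G → ℂ) g * (v χ : ℂ) = 0
  cong : ∀ χ : IrrCharacter G, (9 : ℤ) ∣ (charDegree (χ : G → ℂ) : ℤ) - v χ
  small : ∀ χ ∈ s, v χ = 1 ∨ v χ = -1 ∨ v χ = 2 ∨ v χ = -2

theorem OneClass.exists_data (h : OneClass S) (hx : x ∈ S) (hx1 : x ≠ 1) :
    ∃ v s, Data S x v s := by
  obtain ⟨v, hv, hone, hsq, hlin, hcol, hcong⟩ := h.values hx hx1
  set one := H12.oneIrr G
  set s := (univ : Finset (IrrCharacter G)).filter fun χ => χ ≠ one ∧ v χ ≠ 0 with hs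
  have hmem : ∀ χ, χ ∈ s ↔ χ ≠ one ∧ v χ ≠ 0 := fun χ => by simp [hs]
  have hone1 : charDegree (one : G → ℂ) = 1 := by simp [one, charDegree, H12.oneIrr_apply]
  have hrestrict : ∀ F : IrrCharacter G → ℤ, (∀ χ, v χ = 0 → F χ = 0) →
      ∑ χ, F χ = F one + ∑ χ ∈ s, F χ := by
    intro F hF
    rw [← add_sum_erase _ _ (mem_univ one)]
    congr 1
    refine (sum_subset (fun χ hχ => mem_erase.2 ⟨((hmem χ).1 hχ).1, mem_univ _⟩) fun χ hχ hn => hF χ ?_).symm
    by_contra hc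
    exact hn ((hmem χ).2 ⟨(mem_erase.1 hχ).1, hc⟩)
  have hsq' : ∑ χ ∈ s, v χ * v χ = 8 := by
    have h1 := hrestrict (fun χ => v χ * v χ) fun χ e => by simp [e]
    simp only [hsq, hone] at h1
    omega
  have hlin' : ∑ χ ∈ s, (charDegree (χ : G → ℂ) : ℤ) * v χ = -1 := by
    have h1 := hrestrict (fun χ => (charDegree (χ : G → ℂ) : ℤ) * v χ) fun χ e => by simp [e]
    simp only [hlin, hone, hone1] at h1
    omega
  refine ⟨v, s, hv, hone, hmem, hsq', hlin', hcol, hcong, fun χ hχ => ?_⟩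
  have hle : v χ * v χ ≤ 8 :=
    hsq' ▸ single_le_sum (f := fun χ => v χ * v χ) (fun ψ _ => mul_self_nonneg _) hχ
  have hne := ((hmem χ).1 hχ).2
  have h1 : v χ ≤ 2 := by nlinarith
  have h2 : -2 ≤ v χ := by nlinarith
  omega

variable {v : IrrCharacter G → ℤ} {s : Finset (IrrCharacter G)}

theorem Data.not_three (hD : Data S x v s) {χ : IrrCharacter G} (hχ : χ ∈ s) :
    ¬ 3 ∣ charDegree (χ : G → ℂ) := by
  intro h3
  have hc := hD.cong χ
  rcases hD.small χ hχ with e | e | e | e <;> rw [e] at hc <;> omega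

theorem Data.terms (hD : Data S x v s) (h : Shape G q a b) (hb : 2 ≤ b) :
    Terms s v (fun χ : IrrCharacter G => charDegree (χ : G → ℂ)) q b := by
  refine ⟨h.prime, hD.small, hD.sq, hD.lin, fun χ _ => hD.cong χ,
    fun χ hχ => (h.degree_shape χ (hD.not_three hχ)).1, fun χ hχ => ?_, fun χ hχ e => ?_⟩
  · have h1 := H24.irr_pos χ
    have h2 := H59.Nine.degree_ne_one h.comm χ ((hD.mem χ).1 hχ).1
    show 2 ≤ charDegree (χ : G → ℂ)
    omega
  · haveI : Fact q.Prime := ⟨h.prime⟩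
    obtain ⟨Q⟩ : Nonempty (Sylow q G) := inferInstance
    have hQ := H59.Nine.sylow_le_of_degree_prime h.comm χ e Q
    rw [h.sylow_q Q] at hQ
    have h1 := Nat.le_of_dvd h.prime.pos hQ
    have h2 : q ^ 1 < q ^ b := Nat.pow_lt_pow_right h.prime.one_lt (by omega)
    rw [pow_one] at h2
    omega

theorem Data.count (hD : Data S x v s) (hS : OneClass S) (hx : x ∈ S) (hx1 : x ≠ 1) (h : Shape G q a b) :
    (2 : ℝ) ^ a * (q : ℝ) ^ b * (1 + weight s v fun χ : IrrCharacter G => charDegree (χ : G → ℂ)) ≤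
      9 * (9 + ((invUnion x).ncard : ℝ)) := by
  have hc := count_bound hS hx hx1 v hD.val
  set one := H12.oneIrr G
  have hone1 : charDegree (one : G → ℂ) = 1 := by simp [one, charDegree, H12.oneIrr_apply]
  have hsum : ∑ χ : IrrCharacter G, (v χ : ℝ) * v χ * v χ / (charDegree (χ : G → ℂ) : ℝ) =
      1 + weight s v fun χ : IrrCharacter G => charDegree (χ : G → ℂ) := by
    rw [← add_sum_erase _ _ (mem_univ one), hD.one, hone1]
    refine congrArg₂ _ (by norm_num) ?_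
    refine (sum_subset (fun χ hχ => mem_erase.2 ⟨((hD.mem χ).1 hχ).1, mem_univ _⟩) fun χ hχ hn => ?_).symm
    have : v χ = 0 := by
      by_contra hc'
      exact hn ((hD.mem χ).2 ⟨(mem_erase.1 hχ).1, hc'⟩)
    simp [this]
  rw [hsum, h.card] at hc
  push_cast at hc
  linarith

end H59.Nine.One
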