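import Cfsg.Agent.H59.Nine.Seventeen
import Cfsg.Agent.H59.Nine.One.Setup

/-!
One class of elements of order three and `q = 17`: impossible.
-/

set_option autoImplicit false
set_option linter.style.haveILetI false
set_option linter.unusedSectionVars false
set_option maxHeartbeats 1200000

open Cfsg
open scoped Classical ComplexConjugate

namespace H59.Nine.One

open Finset

universe u

theorem count17' (x y z : ℕ) (hc : x + y + z = 7) (hs : 18 * (x : ℤ) - 16 * y - 288 * z = -10) : y = 4 := by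
  omega

variable {G : Type u} [Group G] [Fintype G] [IsSimpleGroup G] {S : Subgroup G} {x : G}
  {v : IrrCharacter G → ℤ} {s : Finset (IrrCharacter G)}

theorem Data.value_small (hD : Data S x v s) {χ : IrrCharacter G} (hχ : χ ≠ H12.oneIrr G) :
    v χ = 0 ∨ v χ = 1 ∨ v χ = -1 ∨ v χ = 2 ∨ v χ = -2 := by
  by_cases h0 : v χ = 0
  · exact Or.inl h0
  · exact Or.inr (hD.small χ ((hD.mem χ).2 ⟨hχ, h0⟩))

theorem degree_sq_le (χ : IrrCharacter G) : charDegree (χ : G → ℂ) ^ 2 ≤ Nat.card G := by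
  rw [← H12.sum_degree_sq_nat (G := G)]
  exact single_le_sum (f := fun χ : IrrCharacter G => H12.degree (χ : G → ℂ) ^ 2)
    (fun _ _ => Nat.zero_le _) (mem_univ χ)

/-- the order `9 * 2 ^ a * 17` does not occur with one class and six dividing `a` -/
theorem no_seventeen (hG : ¬ IsMulCommutative G) (hD : Data S x v s) {a : ℕ}
    (hcard : Nat.card G = 9 * 2 ^ a * 17) (ha6 : a % 6 = 0) : False := by
  haveI : Fact (Nat.Prime 17) := ⟨by norm_num⟩
  haveI : Fact (Nat.Prime 2) := ⟨Nat.prime_two⟩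
  obtain ⟨P⟩ : Nonempty (Sylow 17 G) := inferInstance
  obtain ⟨hP, hC, e, m, hed, he1, hem, hm, hN⟩ := exists_index hG (by norm_num) (by norm_num) hcard P
  obtain ⟨d, hd, hd17, hcong⟩ := exists_odd_degree hG (by norm_num) (by norm_num) hcard hed hP hC hN
  have hd9 : d = 9 := by omega
  subst hd9
  have he8 : e = 8 := by
    have he16 : e ≤ 16 := Nat.le_of_dvd (by norm_num) hed
    unfold DegCong Int.ModEq at hcong
    interval_cases e <;> simp_all
  subst he8
  have hmod : 9 * (2 ^ (a % 8) % 17) % 17 = 8 := by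
    rw [← pow_two_mod 17 8 (by norm_num) a]
    calc 9 * (2 ^ a % 17) % 17 = (9 * 2 ^ a) % 17 := by rw [Nat.mul_mod, Nat.mod_mod, ← Nat.mul_mod]
      _ = (8 * m) % 17 := by rw [hem]
      _ = 8 := by rw [Nat.mul_mod, hm]
  have ha8 : a % 8 = 4 := by
    have h8 : a % 8 < 8 := Nat.mod_lt _ (by norm_num)
    generalize a % 8 = r at h8 hmod
    interval_cases r <;> simp_all
  have ha12 : 12 ≤ a := by omega
  -- the principal block
  obtain ⟨M, hM⟩ := H22.exists_isPModular 17 (by norm_num)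
  haveI := H20.isPrime_of_modular hM
  have hfree := H62.freeSylow_of_selfCentral hP hC
  have hrelIdx : (Subgroup.centralizer ((P : Subgroup G) : Set G)).relIndex
      (Subgroup.normalizer ((P : Subgroup G) : Set G)) = 8 := by
    rw [hC, Subgroup.relIndex]
    have h1 := Subgroup.card_mul_index
      ((P : Subgroup G).subgroupOf (Subgroup.normalizer ((P : Subgroup G) : Set G)))
    rw [Nat.card_congr (Subgroup.subgroupOfEquivOfLe Subgroup.le_normalizer).toEquiv, hP, hN] at h1
    exact Nat.eq_of_mul_eq_mul_left (by norm_num) h1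
  obtain ⟨X, Y, hB, hXY, hXc, hYc, εX, ε, hX, hε, hYd, hYeq, hreg⟩ :=
    Cfsg.Agent.S4441.result 17 M hM (by norm_num) P hP 8 hrelIdx
  set one := H12.oneIrr G
  have hout : ∀ χ : IrrCharacter G, χ ∉ principalBlock M G → ∀ u ∈ (P : Subgroup G), u ≠ 1 →
      (χ : G → ℂ) u = 0 := by
    intro χ hχ u hu hu1
    have h1 := H12.column_orthogonality u u
    rw [if_pos (IsConj.refl u), H62.centralizer_eq_of_mem hP hC hu hu1, hP,
      ← Finset.sum_sdiff (Finset.subset_univ (principalBlock M G).toFinset)] at h1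
    have h2 := hfree.column_self hM hu hu1
    rw [finsum_mem_eq_toFinset_sum, hP] at h2
    rw [h2, add_eq_right] at h1
    simp only [Complex.mul_conj, ← Complex.ofReal_sum, Complex.ofReal_eq_zero] at h1
    exact Complex.normSq_eq_zero.1
      ((Finset.sum_eq_zero_iff_of_nonneg fun _ _ => Complex.normSq_nonneg _).1 h1 χ (by simp [hχ]))
  have honeX : one ∈ X := by
    have h1 : one ∈ principalBlock M G := H20.mem_blockOf_self (H12.oneIrr G)
    rw [hB] at h1
    refine h1.resolve_right fun hY => ?_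
    have h2 := hYd one hY
    rw [show charDegree (one : G → ℂ) = 1 by simp [one, charDegree, H12.oneIrr_apply]] at h2
    rcases hε with rfl | rfl <;> simp [Int.ModEq] at h2
  have hε1 : εX one = 1 := by
    have h2 := (hX one honeX).2.1
    rw [show charDegree (one : G → ℂ) = 1 by simp [one, charDegree, H12.oneIrr_apply]] at h2
    rcases (hX one honeX).1 with e | e
    · exact e
    · rw [e] at h2; simp [Int.ModEq] at h2
  -- degrees in `X`
  have hXshape : ∀ χ ∈ X, χ ≠ one → ∃ mm t : ℕ, t ≤ 2 ∧ charDegree (χ : G → ℂ) = 2 ^ mm * 3 ^ t ∧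
      2 ^ mm * 3 ^ t ≠ 1 := by
    intro χ hχ hne
    have hq : ¬ 17 ∣ charDegree (χ : G → ℂ) := by
      intro h
      have h2 := (hX χ hχ).2.1
      have h0 : (charDegree (χ : G → ℂ) : ℤ) ≡ 0 [ZMOD 17] := Int.modEq_zero_iff_dvd.2 (by exact_mod_cast h)
      have h3 := h2.symm.trans h0
      rcases (hX χ hχ).1 with e | e <;> rw [e] at h3 <;> simp [Int.ModEq] at h3
    have h1 : charDegree (χ : G → ℂ) ∣ 2 ^ a * 3 ^ 2 := by
      refine ((Nat.Prime.coprime_iff_not_dvd (by norm_num)).2 hq).symm.dvd_of_dvd_mul_right ?_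
      rw [show 2 ^ a * 3 ^ 2 * 17 = Nat.card G by rw [hcard]; ring]
      exact H24.charDegree_dvd_card χ
    obtain ⟨y, z, hy, hz, he⟩ := exists_dvd_and_dvd_of_dvd_mul h1
    obtain ⟨mm, -, rfl⟩ := (Nat.dvd_prime_pow Nat.prime_two).1 hy
    obtain ⟨t, ht, rfl⟩ := (Nat.dvd_prime_pow Nat.prime_three).1 hz
    exact ⟨mm, t, ht, he, he ▸ degree_ne_one hG χ hne⟩
  let f : IrrCharacter G → ℤ := fun χ => εX χ * (charDegree (χ : G → ℂ) : ℤ)
  have hfcases : ∀ χ ∈ X, χ ≠ one → f χ = 18 ∨ f χ = -16 ∨ f χ = -288 ∨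
      ((256 : ℤ) ∣ f χ ∧ (f χ = 256 → ∃ mm, charDegree (χ : G → ℂ) = 2 ^ mm)) := by
    intro χ hχ hne
    obtain ⟨mm, t, ht, he, hne1⟩ := hXshape χ hχ hne
    have h2 := (hX χ hχ).2.1
    rw [he] at h2
    rcases shape17 ht hne1 (hX χ hχ).1 h2 with h | h | h | ⟨h, h'⟩
    · left; simpa [f, he] using h
    · right; left; simpa [f, he] using h
    · right; right; left; simpa [f, he] using h
    · right; right; right
      refine ⟨by simpa [f, he] using h, fun h256 => ⟨mm, ?_⟩⟩
      rw [he, h' (by simpa [f, he] using h256), pow_zero, mul_one]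
  -- the degree nine pair
  obtain ⟨θ0, hθ0⟩ : ∃ θ, θ ∈ Y := by
    have : Nat.card Y ≠ 0 := by rw [hYc]; norm_num
    obtain ⟨⟨θ, hθ⟩⟩ := (Nat.card_ne_zero.1 this).1
    exact ⟨θ, hθ⟩
  have hθ9 : charDegree (θ0 : G → ℂ) = 9 ∧ ε = -1 := by
    -- some member of the block has degree nine
    obtain ⟨d', hd', hpar', -⟩ : ∃ d', (∃ χ, χ ∈ Y ∧ charDegree (χ : G → ℂ) = d') ∧ d' % 2 = 1 ∧ True := by
      by_contra hc
      simp only [not_exists, not_and, and_true] at hc
      have hYeven : charDegree (θ0 : G → ℂ) % 2 = 0 := by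
        have := hc (charDegree (θ0 : G → ℂ)) ⟨θ0, hθ0, rfl⟩; omega
      have h1 := hreg θ0 hθ0 1 (by rw [orderOf_one]; norm_num)
      rw [finsum_mem_eq_toFinset_sum, H24.irr_one] at h1
      simp only [H24.irr_one] at h1
      have h2 : ε * (charDegree (θ0 : G → ℂ) : ℤ) = ∑ χ ∈ X.toFinset, f χ := by
        simp only [f]; exact_mod_cast h1
      have h3 : (2 : ℤ) ∣ ∑ χ ∈ X.toFinset.erase one, f χ := dvd_sum fun χ hχ => by
        obtain ⟨hne, hmem⟩ := mem_erase.1 hχ
        rcases hfcases χ (Set.mem_toFinset.1 hmem) hne with e | e | e | ⟨e, -⟩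
        · rw [e]; norm_num
        · rw [e]; norm_num
        · rw [e]; norm_num
        · exact (by norm_num : (2 : ℤ) ∣ 256).trans e
      rw [← add_sum_erase _ _ (Set.mem_toFinset.2 honeX)] at h2
      have hf1 : f one = 1 := by simp [f, hε1, one, charDegree, H12.oneIrr_apply]
      rw [hf1] at h2
      rcases hε with rfl | rfl <;> omega
    obtain ⟨χ, hχY, rfl⟩ := hd'
    have heq : charDegree (θ0 : G → ℂ) = charDegree (χ : G → ℂ) := by
      have := hYeq θ0 hθ0 χ hχY 1 (by rw [orderOf_one]; norm_num)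
      rw [H24.irr_one, H24.irr_one] at this
      exact_mod_cast this
    have hq : ¬ 17 ∣ charDegree (χ : G → ℂ) := by
      intro h
      have h2 := hYd χ hχY
      have h0 : (charDegree (χ : G → ℂ) : ℤ) ≡ 0 [ZMOD 17] := Int.modEq_zero_iff_dvd.2 (by exact_mod_cast h)
      have h3 := h2.symm.trans h0
      rcases hε with rfl | rfl <;> simp [Int.ModEq] at h3
    have hodd : ¬ 2 ∣ charDegree (χ : G → ℂ) := by
      intro h
      omega
    have h9 : charDegree (χ : G → ℂ) ∣ 9 := by
      have h1 : charDegree (χ : G → ℂ) ∣ 9 * 2 ^ a * 17 := hcard ▸ H24.charDegree_dvd_card χ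
      exact (((Nat.prime_two.coprime_iff_not_dvd.2 hodd).symm).pow_right a).dvd_of_dvd_mul_right
        (((Nat.Prime.coprime_iff_not_dvd (by norm_num)).2 hq).symm.dvd_of_dvd_mul_right h1)
    have h2 := hYd χ hχY
    have hle := Nat.le_of_dvd (by norm_num) h9
    rw [heq]
    generalize charDegree (χ : G → ℂ) = D at h9 h2 hle
    rcases hε with rfl | rfl <;> interval_cases D <;>
      first | (norm_num at h9; done) | (norm_num [Int.ModEq] at h2; done) | norm_num
  obtain ⟨hθ9, rfl⟩ := hθ9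
  have hθone : θ0 ≠ one := fun e => by
    rw [e, show charDegree (one : G → ℂ) = 1 by simp [one, charDegree, H12.oneIrr_apply]] at hθ9
    omega
  -- the restriction of `θ0` to a Sylow `2`-subgroup is rational valued
  obtain ⟨Q⟩ : Nonempty (Sylow 2 G) := inferInstance
  have hQ : Nat.card (Q : Subgroup G) = 2 ^ a :=
    H62.card_sylow_coe (a := a) (m := 9 * 17) (by rw [hcard]; ring) (by norm_num) Q
  have hnz : ∃ u ∈ (P : Subgroup G), u ≠ 1 ∧ (θ0 : G → ℂ) u ≠ 0 := by
    by_contra hc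
    push Not at hc
    obtain ⟨k, hk⟩ := H12.IsCharacter.classInner_nat
      (H12.IsCharacter.res (H12.isCharacter_irr θ0) (P : Subgroup G))
      (H12.isCharacter_one (G := (P : Subgroup G)))
    rw [classInner, inv_mul_eq_iff_eq_mul₀ (by exact_mod_cast Nat.card_pos.ne')] at hk
    simp only [map_one, mul_one] at hk
    rw [sum_eq_single (1 : (P : Subgroup G)) (fun z _ hz => hc z z.2 fun e => hz (Subtype.ext e))
      (fun h => absurd (mem_univ _) h), OneMemClass.coe_one, H24.irr_one, hθ9, hP] at hk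
    have : (9 : ℕ) = 17 * k := by exact_mod_cast hk
    omega
  obtain ⟨u, huP, hu1, hune⟩ := hnz
  have hinv : ∀ (y : (Q : Subgroup G)) (j : ℕ), Nat.Coprime j (2 ^ a) →
      (θ0 : G → ℂ) ((y ^ j : (Q : Subgroup G)) : G) = (θ0 : G → ℂ) y := by
    intro y j hj
    have hcop : Nat.Coprime (153) (2 ^ a) := Nat.Coprime.pow_right _ (by norm_num)
    obtain ⟨k, hk1, hk2⟩ := Nat.chineseRemainder hcop 1 j
    have hkc : Nat.Coprime k (Nat.card G) := by
      rw [hcard, show 9 * 2 ^ a * 17 = 153 * 2 ^ a by ring]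
      refine Nat.Coprime.mul_right ?_ ?_
      · rw [Nat.Coprime, Nat.ModEq.gcd_eq hk1, Nat.gcd_one_left]
      · rw [Nat.Coprime, Nat.ModEq.gcd_eq hk2]; exact hj
    set θ' : IrrCharacter G := ⟨_, H25.isIrrCharacter_comp_pow θ0.2 hkc⟩
    have hθ'def : ∀ z : G, (θ' : G → ℂ) z = (θ0 : G → ℂ) (z ^ k) := fun z => rfl
    have hu17 : u ^ k = u := by
      conv_rhs => rw [← pow_one u]
      refine pow_eq_pow_iff_modEq.2 (hk1.of_dvd ?_)
      exact (hP ▸ Subgroup.orderOf_dvd_natCard _ huP : orderOf u ∣ 17).trans (by norm_num)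
    have hdeg : charDegree (θ' : G → ℂ) = 9 := by
      rw [← hθ9]
      have h1 := H24.irr_one θ'
      rw [hθ'def, one_pow, H24.irr_one] at h1
      exact_mod_cast h1.symm
    have hmem : θ' ∈ principalBlock M G := by
      by_contra hn
      have h0 := hout θ' hn u huP hu1
      rw [hθ'def, hu17] at h0
      exact hune h0
    rw [hB] at hmem
    have hY' : θ' ∈ Y := hmem.resolve_left fun hX' => by
      have h2 := (hX θ' hX').2.1
      rw [hdeg] at h2
      rcases (hX θ' hX').1 with e | e <;> rw [e] at h2 <;> simp [Int.ModEq] at h2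
    have hy : ¬ 17 ∣ orderOf (y : G) := fun hd => by
      have h1 := hd.trans (hQ ▸ Subgroup.orderOf_dvd_natCard _ y.2 : orderOf (y : G) ∣ 2 ^ a)
      exact absurd ((show Nat.Prime 17 by norm_num).dvd_of_dvd_pow h1) (by norm_num)
    have h1 := hYeq θ' hY' θ0 hθ0 y hy
    rw [hθ'def] at h1
    refine Eq.trans ?_ h1
    push_cast
    refine congrArg _ (pow_eq_pow_iff_modEq.2 (hk2.symm.of_dvd ?_))
    exact hQ ▸ Subgroup.orderOf_dvd_natCard _ y.2
  have hle := H17.SchurBound.bound (P := (Q : Subgroup G)) Nat.prime_two hQ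
    (H12.IsCharacter.res (H12.isCharacter_irr θ0) (Q : Subgroup G))
    (fun y hy => Subtype.ext (irr_faithful θ0 hθone (y : G) hy)) hinv
  rw [show H12.degree (fun y : (Q : Subgroup G) => (θ0 : G → ℂ) y) = 9 from hθ9] at hle
  norm_num [Finset.sum_range_succ] at hle
  obtain rfl : a = 12 := by omega
  -- degrees are below `792`
  have hsmall : ∀ χ : IrrCharacter G, charDegree (χ : G → ℂ) ≤ 791 := fun χ => by
    have h1 := degree_sq_le χ
    rw [hcard] at h1
    by_contra hc
    have : 792 ^ 2 ≤ charDegree (χ : G → ℂ) ^ 2 := Nat.pow_le_pow_left (by omega) 2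
    norm_num at h1
    omega
  -- the signed degrees
  have hfX : ∀ χ ∈ X, χ ≠ one → f χ = 18 ∨ (f χ = -16 ∧ v χ = -2) ∨ f χ = -288 := by
    intro χ hχ hne
    have hc := hD.cong χ
    have hv := hD.value_small hne
    have hsm := hsmall χ
    have h17 := (hX χ hχ).2.1
    have hsg := (hX χ hχ).1
    rcases hfcases χ hχ hne with e | e | e | ⟨e, -⟩
    · exact Or.inl e
    · refine Or.inr (Or.inl ⟨e, ?_⟩)
      rcases hsg with e' | e' <;> simp only [f, e'] at e <;> omega
    · exact Or.inr (Or.inr e)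
    · exfalso
      unfold Int.ModEq at h17
      rcases hsg with e' | e' <;> simp only [f, e'] at e <;> rw [e'] at h17 <;>
        have := H24.irr_pos χ <;> omega
  set T := X.toFinset.erase one with hT
  have hTc : T.card = 7 := by
    rw [hT, card_erase_of_mem (Set.mem_toFinset.2 honeX), ← Nat.card_eq_card_toFinset, hXc]
  have hfone : f one = 1 := by simp [f, hε1, one, charDegree, H12.oneIrr_apply]
  have hTsum : ∑ χ ∈ T, f χ = -10 := by
    have h1 := hreg θ0 hθ0 1 (by rw [orderOf_one]; norm_num)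
    rw [finsum_mem_eq_toFinset_sum] at h1
    simp only [H24.irr_one, hθ9] at h1
    have h2 : (-1 : ℤ) * (9 : ℤ) = ∑ χ ∈ X.toFinset, f χ := by simp only [f]; exact_mod_cast h1
    rw [← add_sum_erase _ _ (Set.mem_toFinset.2 honeX), hfone, ← hT] at h2
    omega
  have hTX : ∀ χ ∈ T, f χ = 18 ∨ (f χ = -16 ∧ v χ = -2) ∨ f χ = -288 := fun χ hχ => by
    rw [hT, mem_erase] at hχ
    exact hfX χ (Set.mem_toFinset.1 hχ.2) hχ.1
  set A := T.filter fun χ => f χ = 18
  set T1 := T.filter fun χ => ¬ f χ = 18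
  set Bq := T1.filter fun χ => f χ = -16
  set Z := T1.filter fun χ => ¬ f χ = -16
  have hconst : ∀ (U : Finset (IrrCharacter G)) (c : ℤ), (∀ χ ∈ U, f χ = c) →
      ∑ χ ∈ U, f χ = U.card * c := fun U c hU => by rw [sum_congr rfl hU, sum_const, nsmul_eq_mul]
  have hc1 : A.card + T1.card = T.card := card_filter_add_card_filter_not _
  have hc2 : Bq.card + Z.card = T1.card := card_filter_add_card_filter_not _
  have hs1 : ∑ χ ∈ A, f χ + ∑ χ ∈ T1, f χ = ∑ χ ∈ T, f χ := sum_filter_add_sum_filter_not _ _ _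
  have hs2 : ∑ χ ∈ Bq, f χ + ∑ χ ∈ Z, f χ = ∑ χ ∈ T1, f χ := sum_filter_add_sum_filter_not _ _ _
  rw [hconst A 18 (fun χ h => (mem_filter.1 h).2)] at hs1
  rw [hconst Bq (-16) (fun χ h => (mem_filter.1 h).2), hconst Z (-288) (fun χ h => by
    simp only [Z, T1, mem_filter] at h
    rcases hTX χ h.1.1 with e | ⟨e, -⟩ | e
    · exact absurd e h.1.2
    · exact absurd e h.2
    · exact e)] at hs2
  have hy4 : Bq.card = 4 := count17' A.card Bq.card Z.card (by omega) (by linarith)
  have hBqs : Bq ⊆ s := fun χ hχ => by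
    simp only [Bq, T1, mem_filter] at hχ
    obtain ⟨⟨hχT, -⟩, h16⟩ := hχ
    rcases hTX χ hχT with e | ⟨-, e⟩ | e
    · omega
    · rw [hT, mem_erase] at hχT
      exact (hD.mem χ).2 ⟨hχT.1, by omega⟩
    · omega
  have h4 : ∀ χ ∈ Bq, v χ * v χ = 4 := fun χ hχ => by
    simp only [Bq, T1, mem_filter] at hχ
    obtain ⟨⟨hχT, -⟩, h16⟩ := hχ
    rcases hTX χ hχT with e | ⟨-, e⟩ | e
    · omega
    · rw [e]; norm_num
    · omega
  have h16 : ∑ χ ∈ Bq, v χ * v χ = 16 := by
    rw [sum_congr rfl h4, sum_const, hy4]; norm_num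
  have := sum_le_sum_of_subset_of_nonneg hBqs (f := fun χ => v χ * v χ) fun χ _ _ => mul_self_nonneg _
  rw [h16, hD.sq] at this
  norm_num at this

end H59.Nine.One
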