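import Cfsg.Agent.H59.Nine.Loc.EvenCount
import Cfsg.Agent.H59.Nine.One.Count
import Cfsg.Agent.H62.Basic

/-!
The size of the union of the invariant subgroups in terms of the orders of the Sylow subgroups.
-/

set_option autoImplicit false
set_option linter.unusedSectionVars false

namespace H59.Nine.One

open Loc Finset
open scoped Classical

universe u

local notation "cj" => fun c => MulEquiv.toMonoidHom (MulAut.conj c)

attribute [local instance] Loc.two_fact

/-- the standing hypotheses on the order -/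
structure Shape (G : Type u) [Group G] (q a b : ℕ) : Prop where
  comm : ¬ IsMulCommutative G
  prime : q.Prime
  ne2 : q ≠ 2
  ne3 : q ≠ 3
  card : Nat.card G = 9 * 2 ^ a * q ^ b

variable {G : Type u} [Group G] {q a b : ℕ}

theorem Shape.not_dvd_two (h : Shape G q a b) : ¬ q ∣ 2 := fun e =>
  h.ne2 ((Nat.prime_dvd_prime_iff_eq h.prime Nat.prime_two).1 e)

theorem Shape.not_dvd_nine_two (h : Shape G q a b) : ¬ q ∣ 9 * 2 ^ a := by
  intro hd
  rcases h.prime.dvd_mul.1 hd with e | e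
  · exact h.ne3 ((Nat.prime_dvd_prime_iff_eq h.prime Nat.prime_three).1
      (h.prime.dvd_of_dvd_pow (show q ∣ 3 ^ 2 by norm_num; exact e)))
  · exact h.not_dvd_two (h.prime.dvd_of_dvd_pow e)

theorem Shape.not_two_dvd (h : Shape G q a b) : ¬ 2 ∣ 9 * q ^ b := by
  intro hd
  rcases Nat.prime_two.dvd_mul.1 hd with e | e
  · norm_num at e
  · exact h.ne2 ((Nat.prime_dvd_prime_iff_eq Nat.prime_two h.prime).1 (Nat.prime_two.dvd_of_dvd_pow e)).symm

theorem Shape.five_le (h : Shape G q a b) : 5 ≤ q := by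
  have h1 := h.prime.two_le
  have h2 := h.ne2
  have h3 := h.ne3
  rcases eq_or_ne q 4 with rfl | h4
  · exact absurd h.prime (by norm_num)
  · omega

variable [Finite G]

theorem Shape.sylow_two (h : Shape G q a b) (P : Sylow 2 G) : Nat.card (P : Subgroup G) = 2 ^ a :=
  H62.card_sylow_coe (p := 2) (a := a) (m := 9 * q ^ b) (by rw [h.card]; ring) h.not_two_dvd P

theorem Shape.sylow_q (h : Shape G q a b) [Fact q.Prime] (P : Sylow q G) :
    Nat.card (P : Subgroup G) = q ^ b :=
  H62.card_sylow_coe (p := q) (a := b) (m := 9 * 2 ^ a) (by rw [h.card]; ring) h.not_dvd_nine_two P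

variable [IsSimpleGroup G]

theorem Shape.amb (_h : Shape G q a b) : Amb G :=
  ⟨fun _ hN => hN.eq_bot_or_eq_top⟩

/-- no subgroup of index at most four -/
theorem Shape.index_big (h : Shape G q a b) {H : Subgroup G} (hH : H ≠ ⊤) : 5 ≤ H.index := by
  by_contra hc
  have h1 := H62.two_mul_card_dvd_factorial h.comm H hH
  have h2 : H.index.factorial ∣ Nat.factorial 4 := Nat.factorial_dvd_factorial (by omega)
  have h3 : 9 ∣ Nat.factorial 4 :=
    ((Dvd.intro (2 ^ a * q ^ b) (by rw [h.card]; ring) : 9 ∣ Nat.card G).trans (dvd_mul_left _ 2)).trans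
      (h1.trans h2)
  norm_num [Nat.factorial] at h3

variable {x : G}

/-- the orbit of `L` under the centraliser of `x` -/
noncomputable def orb (x : G) (L : Subgroup G) : Finset (Subgroup G) :=
  haveI := Fintype.ofFinite G
  ((univ : Finset G).filter fun i => i * x = x * i).image fun i => L.map (cj i)

theorem mem_orb {L L' : Subgroup G} : L' ∈ orb x L ↔ ∃ i : G, i * x = x * i ∧ L' = L.map (cj i) := by
  simp [orb, eq_comm]

theorem self_mem_orb (L : Subgroup G) : L ∈ orb x L :=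
  mem_orb.2 ⟨1, by simp, by ext g; simp [Subgroup.mem_map]⟩

theorem map_cj_mul (L : Subgroup G) (c d : G) : L.map (cj (c * d)) = (L.map (cj d)).map (cj c) := by
  ext g
  constructor
  · rintro ⟨y, hy, rfl⟩
    exact ⟨d * y * d⁻¹, ⟨y, hy, rfl⟩, show c * (d * y * d⁻¹) * c⁻¹ = c * d * y * (c * d)⁻¹ by group⟩
  · rintro ⟨_, ⟨y, hy, rfl⟩, rfl⟩
    exact ⟨y, hy, show c * d * y * (c * d)⁻¹ = c * (d * y * d⁻¹) * c⁻¹ by group⟩

theorem card_orb_le {S : Subgroup G} (hS : Nat.card S = 9) (hcent : ∀ i : G, i * x = x * i → i ∈ S)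
    (hxS : x ∈ S) (hx : SF x) {L : Subgroup G} (hL : IsInv x L) : (orb x L).card ≤ 3 := by
  haveI := Fintype.ofFinite G
  set C := (univ : Finset G).filter fun i => i * x = x * i with hC
  have hCS : C.card ≤ 9 := by
    rw [← hS, Nat.card_eq_fintype_card, ← Finset.card_univ,
      ← Finset.card_map (Function.Embedding.subtype (fun g => g ∈ S))]
    refine card_le_card fun i hi => ?_
    rw [hC, mem_filter] at hi
    exact mem_map.2 ⟨⟨i, hcent i hi.2⟩, mem_univ _, rfl⟩
  have hxN := mem_normalizer_of_isInv hx hL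
  have hne : x * x ≠ 1 := fun e => hx.ne_one (by have := hx.cube; rwa [e, one_mul] at this)
  have h3 : 3 * (orb x L).card ≤ C.card := by
    have horb : orb x L = C.image fun i => L.map (cj i) := by
      ext M; simp only [mem_orb, hC, mem_image, mem_filter, mem_univ, true_and, eq_comm]
    rw [horb]
    refine Finset.mul_card_image_le_card C 3 fun L' hL' => ?_
    obtain ⟨i, hi, rfl⟩ := mem_image.1 hL'
    rw [mem_filter] at hi
    have hthree : ({i, i * x, i * (x * x)} : Finset G).card = 3 := by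
      have h1 : i * x ≠ i * (x * x) := by simpa using hx.ne_one
      have h2 : i ∉ ({i * x, i * (x * x)} : Finset G) := by simp [hx.ne_one, hne]
      rw [card_insert_of_notMem h2, card_pair h1]
    rw [← hthree]
    refine card_le_card fun j hj => ?_
    simp only [mem_insert, mem_singleton] at hj
    have hfix : ∀ z ∈ Subgroup.normalizer (L : Set G), z * x = x * z →
        i * z ∈ C.filter fun k => L.map (cj k) = L.map (cj i) := by
      intro z hz hzx
      refine mem_filter.2 ⟨mem_filter.2 ⟨mem_univ _, ?_⟩, ?_⟩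
      · rw [mul_assoc, hzx, ← mul_assoc, hi.2, mul_assoc]
      · rw [map_cj_mul]
        exact congrArg _ (Subgroup.mem_normalizer_iff_map_conj_eq.1 hz)
    rcases hj with rfl | rfl | rfl
    · simpa using hfix 1 (one_mem _) (by simp)
    · exact hfix x hxN rfl
    · exact hfix (x * x) (mul_mem hxN hxN) (by group)
  omega

/-- elements conjugate to `L` by the centraliser or an inverting element -/
theorem share_orb (h : Shape G q a b) (hx : SF x) {r : ℕ} [Fact r.Prime] {L L' : Subgroup G}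
    (hL : IsMax x L) (hL' : IsMax x L') (hd : r ∣ Nat.card L) (hd' : r ∣ Nat.card L')
    (hN : r ≠ 2 ∨ Nat.card (Subgroup.normalizer (L : Set G)) = 3 * Nat.card L)
    (hN' : r ≠ 2 ∨ Nat.card (Subgroup.normalizer (L' : Set G)) = 3 * Nat.card L') {t : G}
    (ht : t * x * t⁻¹ = x⁻¹) :
    L' ∈ orb x L ∪ (orb x L).image (fun M => M.map (cj t)) := by
  obtain ⟨P, hP⟩ := part_sylow h.amb hx hL hd hN
  obtain ⟨P', hP'⟩ := part_sylow h.amb hx hL' hd' hN'
  obtain ⟨g, hg⟩ := MulAction.exists_smul_eq G P P'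
  have hg' : (part r L).map (MulAut.conj g).toMonoidHom = part r L' := by
    rw [← hP, ← hP', ← hg, Sylow.coe_subgroup_smul]; rfl
  obtain ⟨i, hi, e | e⟩ := max_unique h.amb hx hL hL' hd hd' hg' ht
  · exact mem_union_left _ (mem_orb.2 ⟨i, hi, e⟩)
  · refine mem_union_right _ (mem_image.2 ⟨L.map (cj i), mem_orb.2 ⟨i, hi, rfl⟩, ?_⟩)
    rw [e, map_cj_mul]

theorem image_orb_of_normalizer (hx : SF x) {L : Subgroup G} {t : G}
    (ht : t * x * t⁻¹ = x⁻¹) (htN : t ∈ Subgroup.normalizer (L : Set G)) :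
    (orb x L).image (fun M => M.map (cj t)) ⊆ orb x L := by
  intro M hM
  obtain ⟨M', hM', rfl⟩ := mem_image.1 hM
  obtain ⟨i, hi, rfl⟩ := mem_orb.1 hM'
  refine mem_orb.2 ⟨t * i * t⁻¹, ?_, ?_⟩
  · have hi' : i * x⁻¹ = x⁻¹ * i := ((show Commute i x from hi).inv_right).eq
    have ht' : t * x⁻¹ * t⁻¹ = x := by rw [← conj_inv, ht, inv_inv]
    calc t * i * t⁻¹ * x = t * i * t⁻¹ * (t * x⁻¹ * t⁻¹) := by rw [ht']
      _ = t * (i * x⁻¹) * t⁻¹ := by group
      _ = (t * x⁻¹ * t⁻¹) * (t * i * t⁻¹) := by rw [hi']; group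
      _ = x * (t * i * t⁻¹) := by rw [ht']
  · rw [← map_cj_mul]
    conv_lhs => rw [show t * i = t * i * t⁻¹ * t by group, map_cj_mul]
    exact congrArg _ (Subgroup.mem_normalizer_iff_map_conj_eq.1 htN)

/-- the maximal invariant subgroups that are pure `2`-groups, or divisible by `q` -/
theorem Shape.max_card (h : Shape G q a b) (hx : SF x) {L : Subgroup G} (hL : IsMax x L) :
    (∃ k, k ≤ a ∧ 2 ≤ k ∧ Nat.card L = 2 ^ k ∧ ¬ q ∣ Nat.card L) ∨ q ∣ Nat.card L := by
  by_cases hq : q ∣ Nat.card L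
  · exact Or.inr hq
  left
  have hd : Nat.card L ∣ 9 * 2 ^ a * q ^ b := h.card ▸ Subgroup.card_subgroup_dvd_card L
  have h3 : ¬ 3 ∣ Nat.card L := hL.1.2
  have hc9 : Nat.Coprime (Nat.card L) 9 := (Nat.prime_three.coprime_iff_not_dvd.2 h3).symm.pow_right 2
  have hcq : Nat.Coprime (Nat.card L) (q ^ b) := (h.prime.coprime_iff_not_dvd.2 hq).symm.pow_right b
  have hd2 : Nat.card L ∣ 2 ^ a := hc9.dvd_of_dvd_mul_left (hcq.dvd_of_dvd_mul_right hd)
  obtain ⟨k, hk, he⟩ := (Nat.dvd_prime_pow Nat.prime_two).1 hd2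
  have hmod := hL.1.card_mod hx
  have hne : Nat.card L ≠ 1 := fun e => hL.2.1 (Subgroup.card_eq_one.1 e)
  refine ⟨k, hk, ?_, he, hq⟩
  by_contra hc
  interval_cases k
  · exact hne (by simpa using he)
  · rw [he] at hmod; norm_num at hmod

/-- the order of a maximal invariant subgroup divisible by `q` -/
theorem Shape.max_q (h : Shape G q a b) (hx : SF x) [Fact q.Prime] {L : Subgroup G} (hL : IsMax x L)
    (hq : q ∣ Nat.card L) :
    q ^ b % 3 = 1 ∧ ∃ P : Sylow q G,
      Subgroup.normalizer ((P : Subgroup G) : Set G) = Subgroup.normalizer (L : Set G) ∧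
      ((Nat.card L = q ^ b ∧ (Nat.card (Subgroup.normalizer (L : Set G)) = 3 * q ^ b ∨
          Nat.card (Subgroup.normalizer (L : Set G)) = 6 * q ^ b)) ∨
        (Nat.card L = 4 * q ^ b ∧ Nat.card (Subgroup.normalizer (L : Set G)) = 24 * q ^ b ∧ IsEv x L)) := by
  obtain ⟨P, hP⟩ := part_sylow h.amb hx hL hq (Or.inl h.ne2)
  have hmodP : q ^ b % 3 = 1 := by
    have h1 := (part_isInv (q := q) hx hL.1).card_mod hx
    rwa [← hP, h.sylow_q P] at h1
  refine ⟨hmodP, P, by rw [hP]; exact (max_local h.amb hx hL hq).1, ?_⟩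
  have hNcard := (max_local h.amb hx hL hq).2.1
  have hqb : q ^ b ∣ Nat.card L := by
    rw [← h.sylow_q P, hP]; exact Subgroup.card_dvd_of_le (part_le L)
  obtain ⟨c, hc⟩ := hqb
  have hd : Nat.card L ∣ 9 * 2 ^ a * q ^ b := h.card ▸ Subgroup.card_subgroup_dvd_card L
  have hpos : 0 < q ^ b := pow_pos h.prime.pos b
  have hc2 : c ∣ 2 ^ a := by
    have h1 : c ∣ 9 * 2 ^ a := by
      rw [hc, mul_comm (9 * 2 ^ a) (q ^ b)] at hd
      exact Nat.dvd_of_mul_dvd_mul_left hpos hd
    have h3 : ¬ 3 ∣ c := fun e => hL.1.2 (hc ▸ e.mul_left _)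
    exact ((Nat.prime_three.coprime_iff_not_dvd.2 h3).symm.pow_right 2).dvd_of_dvd_mul_left h1
  obtain ⟨k, hk, rfl⟩ := (Nat.dvd_prime_pow Nat.prime_two).1 hc2
  rcases Nat.eq_zero_or_pos k with rfl | hk0
  · rw [pow_zero, mul_one] at hc
    left
    rw [hc] at hNcard
    exact ⟨hc, hNcard⟩
  right
  have h2L : 2 ∣ Nat.card L := hc ▸ (dvd_pow_self 2 hk0.ne').mul_left _
  have hne := (Subgroup.normalizer (L : Set G))
  have hNtop : Subgroup.normalizer (L : Set G) ≠ ⊤ :=
    normalizer_ne_top h.amb hL.2.1 (ne_top_of_isInv hx hL.1)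
  have hidx := h.index_big hNtop
  have hmul := (Subgroup.normalizer (L : Set G)).card_mul_index
  rw [h.card] at hmul
  have hfac : (Nat.card L).factorization 2 = k := by
    rw [hc, Nat.factorization_mul hpos.ne' (pow_ne_zero _ two_ne_zero), Finsupp.add_apply,
      Nat.prime_two.factorization_pow, Finsupp.single_eq_same,
      Nat.factorization_eq_zero_of_not_dvd fun e => h.ne2
        ((Nat.prime_dvd_prime_iff_eq Nat.prime_two h.prime).1 (Nat.prime_two.dvd_of_dvd_pow e)).symm,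
      zero_add]
  have hbad : ∀ N : ℕ, Nat.card (Subgroup.normalizer (L : Set G)) = N → 9 * 2 ^ a * q ^ b ≤ 4 * N → False := by
    intro N hN hle
    rw [hN] at hmul
    have hNpos : 0 < N := hN ▸ Nat.card_pos
    have : 5 * N ≤ N * (Subgroup.normalizer (L : Set G)).index := by
      rw [mul_comm 5]; exact Nat.mul_le_mul_left N hidx
    omega
  rcases hNcard with e | e
  · exfalso
    obtain ⟨P2, hP2⟩ := part_sylow (q := 2) h.amb hx hL h2L (Or.inr e)
    have hka : k = a := by
      have h1 := h.sylow_two P2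
      rw [hP2, card_part, hfac] at h1
      exact Nat.pow_right_injective le_rfl h1
    subst hka
    refine hbad _ e ?_
    rw [hc]
    have : 0 < q ^ b * 2 ^ k := Nat.mul_pos hpos (by positivity)
    nlinarith
  · have hev : IsEv x L := ⟨hL, h2L, e⟩
    obtain ⟨P2⟩ := (inferInstance : Nonempty (Sylow 2 G))
    obtain ⟨c', hc'⟩ := exists_placed h.amb hx hev P2
    have hM : Nat.card ((part 2 L).map (cj c')) = 2 ^ k := by
      rw [card_map_conj, card_part, hfac]
    have h4 : Nat.card L = 4 * q ^ b := by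
      by_contra hne4
      have hbig : 4 < 2 ^ k := by
        have h4le := hc'.1.four_le
        rw [hM] at h4le
        rcases eq_or_lt_of_le h4le with e4 | e4
        · exact absurd (by rw [hc, ← e4, mul_comm]) hne4
        · exact e4
      have h1 := hc'.card_big h.amb (hM.symm ▸ hbig)
      rw [h.sylow_two P2, hM] at h1
      refine hbad _ e ?_
      rw [hc, h1]
      have : 0 < q ^ b * 2 ^ k := Nat.mul_pos hpos (by positivity)
      nlinarith
    refine ⟨h4, ?_, hev⟩
    rw [e, h4]; ring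

/-- the maximal invariant subgroups, as a finset -/
noncomputable def maxSet (x : G) : Finset (Subgroup G) :=
  haveI := Fintype.ofFinite (Subgroup G)
  (univ : Finset (Subgroup G)).filter fun L => IsMax x L

theorem mem_maxSet {L : Subgroup G} : L ∈ maxSet x ↔ IsMax x L := by simp [maxSet]

theorem union_le_sum (hx : SF x) :
    (invUnion x).ncard ≤ ∑ L ∈ maxSet x, (Nat.card L - 1) := by
  haveI := Fintype.ofFinite G
  let U : Subgroup G → Finset G := fun L => ((univ : Finset G).filter fun g => g ∈ L).erase 1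
  have hU : ∀ L : Subgroup G, (U L).card = Nat.card L - 1 := fun L => by
    rw [Finset.card_erase_of_mem (by simp [L.one_mem]), Nat.card_eq_fintype_card, Fintype.card_subtype]
  calc (invUnion x).ncard ≤ ((maxSet x).biUnion U : Finset G).card := by
        rw [← Set.ncard_coe_finset]
        refine Set.ncard_le_ncard ?_ (Finset.finite_toSet _)
        rintro k ⟨hk1, L, hL, hkL⟩
        obtain ⟨M, hM, hLM⟩ := exists_max hx hL fun e => hk1 (Subgroup.mem_bot.1 (e ▸ hkL))
        exact Finset.mem_coe.2 (mem_biUnion.2 ⟨M, mem_maxSet.2 hM,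
          mem_erase.2 ⟨hk1, mem_filter.2 ⟨mem_univ _, hLM hkL⟩⟩⟩)
    _ ≤ ∑ L ∈ maxSet x, (U L).card := card_biUnion_le
    _ = _ := sum_congr rfl fun L _ => hU L

theorem sum_le_card_mul {s : Finset (Subgroup G)} {n c : ℕ} (hn : s.card ≤ n)
    (hc : ∀ L ∈ s, Nat.card L ≤ c) : ∑ L ∈ s, (Nat.card L - 1) ≤ n * (c - 1) :=
  (sum_le_card_nsmul s _ (c - 1) fun L hL => Nat.sub_le_sub_right (hc L hL) 1).trans
    (by rw [smul_eq_mul]; exact Nat.mul_le_mul_right _ hn)

/-- at most twelve even ones with normaliser of index six -/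
theorem ev_card_le' (h : Shape G q a b) (hx : SF x) {S : Subgroup G} (hS : Nat.card S = 9)
    (hcent : ∀ i : G, i * x = x * i → i ∈ S) (hxS : x ∈ S) (s : Finset (Subgroup G))
    (hs : ∀ L ∈ s, IsEv x L) : s.card ≤ 12 := by
  have hsym : ∀ L L' : Subgroup G, L' ∈ orb x L → orb x L' = orb x L := by
    intro L L' hL'
    obtain ⟨i, hi, rfl⟩ := mem_orb.1 hL'
    ext M
    simp only [mem_orb]
    constructor
    · rintro ⟨j, hj, rfl⟩
      exact ⟨j * i, by rw [mul_assoc, hi, ← mul_assoc, hj, mul_assoc], (map_cj_mul L j i).symm⟩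
    · rintro ⟨j, hj, rfl⟩
      have hinv : i⁻¹ * x = x * i⁻¹ := ((show Commute i x from hi).inv_left).eq
      refine ⟨j * i⁻¹, by rw [mul_assoc, hinv, ← mul_assoc, hj, mul_assoc], ?_⟩
      rw [← map_cj_mul, inv_mul_cancel_right]
  have himg : (s.image (orb x)).card ≤ 4 := by
    choose! f hf using fun o (ho : o ∈ s.image (orb x)) => mem_image.1 ho
    have hinj : Set.InjOn f (s.image (orb x) : Set (Finset (Subgroup G))) := fun o ho o' ho' e => by
      rw [← (hf o ho).2, ← (hf o' ho').2, e]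
    rw [← card_image_of_injOn hinj]
    refine ev_card_le h.amb hx _ (fun L hL => ?_) ?_
    · obtain ⟨o, ho, rfl⟩ := mem_image.1 hL
      exact hs _ (hf o ho).1
    · intro L hL L' hL' i hi e
      obtain ⟨o, ho, rfl⟩ := mem_image.1 hL
      obtain ⟨o', ho', rfl⟩ := mem_image.1 hL'
      have := hsym _ _ (mem_orb.2 ⟨i, hi, e⟩)
      rw [(hf o ho).2, (hf o' ho').2] at this
      rw [this]
  have h3 : ∀ o ∈ s.image (orb x), (s.filter fun L => orb x L = o).card ≤ 3 := by
    intro o ho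
    obtain ⟨L, hL, rfl⟩ := mem_image.1 ho
    refine (card_le_card fun L' hL' => ?_).trans (card_orb_le hS hcent hxS hx (hs L hL).1.1)
    rw [mem_filter] at hL'
    exact hL'.2 ▸ self_mem_orb L'
  have := card_le_mul_card_image s 3 h3
  omega

/-- big parts give at most three subgroups -/
theorem ev_big_le (h : Shape G q a b) (hx : SF x) {S : Subgroup G} (hS : Nat.card S = 9)
    (hcent : ∀ i : G, i * x = x * i → i ∈ S) (hxS : x ∈ S) (s : Finset (Subgroup G))
    (hs : ∀ L ∈ s, IsEv x L ∧ 4 < Nat.card (part 2 L)) : s.card ≤ 3 := by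
  rcases s.eq_empty_or_nonempty with rfl | ⟨L, hL⟩
  · simp
  refine (card_le_card fun L' hL' => ?_).trans (card_orb_le hS hcent hxS hx (hs L hL).1.1.1)
  obtain ⟨P⟩ := (inferInstance : Nonempty (Sylow 2 G))
  obtain ⟨c, hc⟩ := exists_placed h.amb hx (hs L hL).1 P
  obtain ⟨c', hc'⟩ := exists_placed h.amb hx (hs L' hL').1 P
  have h4 := (hs L hL).2
  have h4' := (hs L' hL').2
  rw [← card_map_conj (part 2 L) c] at h4
  rw [← card_map_conj (part 2 L') c'] at h4'
  have heq : (part 2 L).map (cj c) = (part 2 L').map (cj c') := by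
    by_contra hne
    exact h4.ne' (two_index h.amb hc.1 hc'.1 P.isPGroup' hc.2.1 hc'.2.1 (hc.card_big h.amb h4)
      (hc'.card_big h.amb h4') hne)
  exact mem_orb.2 (ev_eq_of_conj h.amb hx (hs L hL).1 (hs L' hL').1 heq)

/-- the union when the Sylow `q`-subgroup has order two modulo three -/
theorem union_bound_even (h : Shape G q a b) (hx : SF x) {S : Subgroup G} (hS : Nat.card S = 9)
    (hcent : ∀ i : G, i * x = x * i → i ∈ S) (hxS : x ∈ S) {t : G} (ht : t * x * t⁻¹ = x⁻¹)
    (hB : q ^ b % 3 = 2) (hA3 : 2 ^ a % 3 = 1) (ha : 3 ≤ a) : (invUnion x).ncard ≤ 6 * 2 ^ a := by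
  haveI : Fact q.Prime := ⟨h.prime⟩
  refine (union_le_sum hx).trans ?_
  have hA : 8 ≤ 2 ^ a := (Nat.pow_le_pow_right two_pos ha).trans' (by norm_num)
  have hpure : ∀ L ∈ maxSet x, ∃ k, k ≤ a ∧ 2 ≤ k ∧ Nat.card L = 2 ^ k := by
    intro L hL
    rcases h.max_card hx (mem_maxSet.1 hL) with ⟨k, h1, h2, h3, -⟩ | hq
    · exact ⟨k, h1, h2, h3⟩
    · have := (h.max_q hx (mem_maxSet.1 hL) hq).1
      omega
  by_cases hev : ∃ L ∈ maxSet x, IsEv x L
  · obtain ⟨L0, -, hev⟩ := hev
    have hall : ∀ L ∈ maxSet x, IsEv x L := by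
      intro L hL
      obtain ⟨k, -, hk2, hk⟩ := hpure L hL
      have h2 : 2 ∣ Nat.card L := hk ▸ dvd_pow_self 2 (by omega)
      refine ⟨mem_maxSet.1 hL, h2, ?_⟩
      exact ((max_local (q := 2) h.amb hx (mem_maxSet.1 hL) h2).2.1).resolve_left
        fun e => ev_no_regular h.amb hx hev (mem_maxSet.1 hL) h2 e
    have hsmall : ∀ L ∈ maxSet x, Nat.card L ≤ 4 := by
      intro L hL
      obtain ⟨k, -, -, hk⟩ := hpure L hL
      by_contra hc
      obtain ⟨P⟩ := (inferInstance : Nonempty (Sylow 2 G))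
      obtain ⟨c, hc'⟩ := exists_placed h.amb hx (hall L hL) P
      have hM : Nat.card ((part 2 L).map (cj c)) = Nat.card L := by
        rw [card_map_conj, card_part, hk, Nat.prime_two.factorization_pow, Finsupp.single_eq_same]
      have h1 := hc'.card_big h.amb (by rw [hM]; omega)
      rw [h.sylow_two P, hM] at h1
      have h3 := (mem_maxSet.1 hL).1.card_mod hx
      omega
    refine (sum_le_card_mul (ev_card_le' h hx hS hcent hxS _ hall) hsmall).trans ?_
    omega
  · push Not at hev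
    rcases (maxSet x).eq_empty_or_nonempty with he | ⟨L0, hL0⟩
    · rw [he, sum_empty]; omega
    have hreg : ∀ L ∈ maxSet x, 2 ∣ Nat.card L ∧
        Nat.card (Subgroup.normalizer (L : Set G)) = 3 * Nat.card L := by
      intro L hL
      obtain ⟨k, -, hk2, hk⟩ := hpure L hL
      have h2 : 2 ∣ Nat.card L := hk ▸ dvd_pow_self 2 (by omega)
      exact ⟨h2, ((max_local (q := 2) h.amb hx (mem_maxSet.1 hL) h2).2.1).resolve_right
        fun e => hev L hL ⟨mem_maxSet.1 hL, h2, e⟩⟩
    have hsub : maxSet x ⊆ orb x L0 ∪ (orb x L0).image (fun M => M.map (cj t)) := fun L hL =>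
      share_orb h hx (mem_maxSet.1 hL0) (mem_maxSet.1 hL) (hreg L0 hL0).1 (hreg L hL).1
        (Or.inr (hreg L0 hL0).2) (Or.inr (hreg L hL).2) ht
    have ho := card_orb_le hS hcent hxS hx (mem_maxSet.1 hL0).1
    have hc6 : (maxSet x).card ≤ 6 :=
      (card_le_card hsub).trans ((card_union_le _ _).trans (Nat.add_le_add ho ((card_image_le).trans ho)))
    refine (sum_le_card_mul hc6 (c := 2 ^ a) fun L hL => ?_).trans ?_
    · obtain ⟨k, hk, -, he⟩ := hpure L hL
      exact he ▸ Nat.pow_le_pow_right two_pos hk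
    · omega

/-- the union when the Sylow `2`-subgroup has order two modulo three -/
theorem union_bound_odd (h : Shape G q a b) (hx : SF x) {S : Subgroup G} (hS : Nat.card S = 9)
    (hcent : ∀ i : G, i * x = x * i → i ∈ S) (hxS : x ∈ S) {t : G} (ht : t * x * t⁻¹ = x⁻¹)
    (hA : 2 ^ a % 3 = 2) :
    ∃ u, 2 * (invUnion x).ncard ≤ 2 * u + 3 * 2 ^ a + 72 ∧
      (u = 0 ∨
        (q ^ b % 3 = 1 ∧ ∃ P : Sylow q G,
          ((Nat.card (Subgroup.normalizer ((P : Subgroup G) : Set G)) = 3 * q ^ b ∨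
              Nat.card (Subgroup.normalizer ((P : Subgroup G) : Set G)) = 6 * q ^ b) ∧ u = 6 * q ^ b) ∨
          (Nat.card (Subgroup.normalizer ((P : Subgroup G) : Set G)) = 24 * q ^ b ∧ u = 12 * q ^ b))) := by
  haveI : Fact q.Prime := ⟨h.prime⟩
  set F := maxSet x
  set FQ := F.filter fun L : Subgroup G => q ∣ Nat.card L
  set F2 := F.filter fun L : Subgroup G => ¬ q ∣ Nat.card L
  have hsplit : ∑ L ∈ FQ, (Nat.card L - 1) + ∑ L ∈ F2, (Nat.card L - 1) = ∑ L ∈ F, (Nat.card L - 1) :=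
    sum_filter_add_sum_filter_not _ _ _
  have hev : ∀ L ∈ F2, IsEv x L ∧ ∃ k, Nat.card L = 2 ^ k := by
    intro L hL
    rw [mem_filter] at hL
    have hLm := mem_maxSet.1 hL.1
    obtain ⟨k, hka, hk2, hk, -⟩ := (h.max_card hx hLm).resolve_right hL.2
    have h2 : 2 ∣ Nat.card L := hk ▸ dvd_pow_self 2 (by omega)
    refine ⟨⟨hLm, h2, ((max_local (q := 2) h.amb hx hLm h2).2.1).resolve_left fun e => ?_⟩, k, hk⟩
    obtain ⟨P, hP⟩ := part_sylow (q := 2) h.amb hx hLm h2 (Or.inr e)
    have h1 := (part_isInv (q := 2) hx hLm.1).card_mod hx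
    rw [← hP, h.sylow_two P] at h1
    omega
  have hF2 : 2 * ∑ L ∈ F2, (Nat.card L - 1) ≤ 3 * 2 ^ a + 72 := by
    rw [← sum_filter_add_sum_filter_not F2 (fun L : Subgroup G => 4 < Nat.card L)]
    obtain ⟨P⟩ := (inferInstance : Nonempty (Sylow 2 G))
    have hb : ∀ L ∈ F2.filter (fun L : Subgroup G => 4 < Nat.card L),
        (IsEv x L ∧ 4 < Nat.card (part 2 L)) ∧ 2 * Nat.card L = 2 ^ a := by
      intro L hL
      rw [mem_filter] at hL
      obtain ⟨hLe, k, hk⟩ := hev L hL.1
      have hp : Nat.card (part 2 L) = Nat.card L := by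
        rw [card_part, hk, Nat.prime_two.factorization_pow, Finsupp.single_eq_same]
      refine ⟨⟨hLe, hp ▸ hL.2⟩, ?_⟩
      obtain ⟨c, hc⟩ := exists_placed h.amb hx hLe P
      have h1 := hc.card_big h.amb (by rw [card_map_conj, hp]; exact hL.2)
      rw [card_map_conj, hp, h.sylow_two P] at h1
      exact h1.symm
    have h3 := ev_big_le h hx hS hcent hxS _ fun L hL => (hb L hL).1
    have hbig : 2 * ∑ L ∈ F2.filter (fun L : Subgroup G => 4 < Nat.card L), (Nat.card L - 1) ≤ 3 * 2 ^ a := by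
      rw [mul_sum]
      refine (sum_le_card_nsmul _ _ (2 ^ a) fun L hL => ?_).trans (by
        rw [smul_eq_mul]; exact Nat.mul_le_mul_right _ h3)
      have := (hb L hL).2
      omega
    have h12 : (F2.filter fun L : Subgroup G => ¬ 4 < Nat.card L).card ≤ 12 :=
      ev_card_le' h hx hS hcent hxS _ fun L hL => (hev L (mem_filter.1 hL).1).1
    have hsm : ∑ L ∈ F2.filter (fun L : Subgroup G => ¬ 4 < Nat.card L), (Nat.card L - 1) ≤ 12 * (4 - 1) :=
      sum_le_card_mul h12 fun L hL => not_lt.1 (mem_filter.1 hL).2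
    omega
  rcases FQ.eq_empty_or_nonempty with he | ⟨L0, hL0⟩
  · refine ⟨0, ?_, Or.inl rfl⟩
    rw [he, sum_empty] at hsplit
    have hU : (invUnion x).ncard ≤ ∑ L ∈ F, (Nat.card L - 1) := union_le_sum hx
    omega
  rw [mem_filter] at hL0
  have hL0m := mem_maxSet.1 hL0.1
  obtain ⟨hmod, P, hPN, hcase⟩ := h.max_q hx hL0m hL0.2
  have hsub : FQ ⊆ orb x L0 ∪ (orb x L0).image (fun M => M.map (cj t)) := fun L hL => by
    rw [mem_filter] at hL
    exact share_orb h hx hL0m (mem_maxSet.1 hL.1) hL0.2 hL.2 (Or.inl h.ne2) (Or.inl h.ne2) ht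
  have ho := card_orb_le hS hcent hxS hx hL0m.1
  have hcard : ∀ L ∈ orb x L0 ∪ (orb x L0).image (fun M => M.map (cj t)), Nat.card L = Nat.card L0 := by
    intro L hL
    rcases mem_union.1 hL with hL | hL
    · obtain ⟨i, -, rfl⟩ := mem_orb.1 hL; exact card_map_conj _ _
    · obtain ⟨M, hM, rfl⟩ := mem_image.1 hL
      obtain ⟨i, -, rfl⟩ := mem_orb.1 hM
      rw [card_map_conj, card_map_conj]
  have hUnion : (invUnion x).ncard ≤ ∑ L ∈ F, (Nat.card L - 1) := union_le_sum hx
  have hpos : 0 < q ^ b := pow_pos h.prime.pos b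
  rcases hcase with ⟨hc, hN⟩ | ⟨hc, hN, hLe⟩
  · refine ⟨6 * q ^ b, ?_, Or.inr ⟨hmod, P, Or.inl ⟨by rw [hPN]; exact hN, rfl⟩⟩⟩
    have hc6 : FQ.card ≤ 6 :=
      (card_le_card hsub).trans ((card_union_le _ _).trans (Nat.add_le_add ho ((card_image_le).trans ho)))
    have := sum_le_card_mul hc6 (c := q ^ b) fun L hL => le_of_eq ((hcard L (hsub hL)).trans hc)
    omega
  · refine ⟨12 * q ^ b, ?_, Or.inr ⟨hmod, P, Or.inr ⟨by rw [hPN]; exact hN, rfl⟩⟩⟩
    obtain ⟨s, hsN, hs, -⟩ := ev_structure hx hLe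
    have hsub' : FQ ⊆ orb x L0 := fun L hL => by
      rw [mem_filter] at hL
      rcases mem_union.1 (share_orb h hx hL0m (mem_maxSet.1 hL.1) hL0.2 hL.2 (Or.inl h.ne2) (Or.inl h.ne2) hs)
        with e | e
      · exact e
      · exact image_orb_of_normalizer hx hs hsN e
    have := sum_le_card_mul ((card_le_card hsub').trans ho) (c := 4 * q ^ b)
      fun L hL => le_of_eq ((hcard L (hsub (hL))).trans hc)
    omega

end H59.Nine.One
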